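import Groth.Agent.EquidimPt.Qf
import Groth.Agent.FibCrit.Scheme
import Groth.Agent.LimDesc.FPCancel

/-!
# Flat charts into affine space at maximal points of fibres
-/

set_option autoImplicit false
universe u

open CategoryTheory AlgebraicGeometry Topology TopologicalSpace Limits
open Groth.Agent.Unibranch

namespace Groth.Agent.EquidimPt

variable {X Y : Scheme.{u}}

/-- A fibre of affine space is affine space over the residue field. -/
noncomputable def fiberIso (σ : Type u) (y : Y) :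
    (AffineSpace σ Y ↘ Y).fiber y ≅ Spec (CommRingCat.of (MvPolynomial σ (Y.residueField y))) :=
  (AffineSpace.isPullback_map (n := σ) (Y.fromSpecResidueField y)).isoPullback.symm ≪≫
    AffineSpace.SpecIso σ (Y.residueField y)

/-- A fibre of affine space of rank `e` has a generic point and chains of length `e`. -/
theorem exists_generic_affineSpace (e : ℕ) (y : Y) :
    ∃ γ : ↥(AffineSpace (ULift.{u} (Fin e)) Y), (AffineSpace (ULift.{u} (Fin e)) Y ↘ Y) γ = y ∧
      (∀ a, (AffineSpace (ULift.{u} (Fin e)) Y ↘ Y) a = y → γ ⤳ a) ∧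
      HasChain (AffineSpace (ULift.{u} (Fin e)) Y ↘ Y) (closure {γ}) y e := by
  let π := AffineSpace (ULift.{u} (Fin e)) Y ↘ Y
  have hpt : ∀ z, π (π.fiberι y z) = y := fun z => by
    have : π.fiberι y z ∈ Set.range (π.fiberι y) := ⟨z, rfl⟩
    rwa [Scheme.Hom.range_fiberι] at this
  have hgen : ∀ a, π a = y → π.fiberι y (genericPoint (π.fiber y)) ⤳ a := fun a ha => by
    obtain ⟨z, rfl⟩ : a ∈ Set.range (π.fiberι y) := by rw [Scheme.Hom.range_fiberι]; exact ha
    exact (genericPoint_specializes z).map (π.fiberι y).continuous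
  refine ⟨_, hpt _, hgen, ?_⟩
  have hd : ((e : ℕ) : WithBot ℕ∞) ≤
      ringKrullDim (MvPolynomial (ULift.{u} (Fin e)) (Y.residueField y)) := by
    rw [MvPolynomial.ringKrullDim_of_isNoetherianRing, ringKrullDim_eq_zero_of_field,
      Nat.card_eq_fintype_card, Fintype.card_ulift, Fintype.card_fin, zero_add]
  obtain ⟨l, hl⟩ := Order.le_krullDim_iff.mp hd
  suffices h : HasChain π (closure {π.fiberι y (genericPoint (π.fiber y))}) y l.length by rwa [hl] at h
  let j := (fiberIso (ULift.{u} (Fin e)) y).inv ≫ π.fiberι y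
  have hj : ∀ i, π (j (l i)) = y := fun i => hpt _
  refine ⟨fun i => j (l i), fun i => ⟨(hgen _ (hj i)).mem_closure, hj i⟩, fun i => ⟨?_, ?_⟩⟩
  · exact ((PrimeSpectrum.le_iff_specializes _ _).mp (l.step i).le).map j.continuous
  · exact fun h => (show l i.castSucc < l i.succ from l.step i).ne
      ((fiberIso _ y).inv.isEmbedding.injective ((π.fiberι y).isEmbedding.injective h))

/-- Affine space of rank `e` has fibre dimension `e` everywhere. -/
theorem le_fibreDimAt_affineSpace (e : ℕ) (a : ↥(AffineSpace (ULift.{u} (Fin e)) Y)) :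
    (e : WithBot ℕ∞) ≤ FlatMor.fibreDimAt (AffineSpace (ULift.{u} (Fin e)) Y ↘ Y) a := by
  obtain ⟨γ, hγy, hγ, hc⟩ := exists_generic_affineSpace e ((AffineSpace (ULift.{u} (Fin e)) Y ↘ Y) a)
  rw [← hγy] at hc
  refine (natCast_le_fibreDimAt_iff _ a).mpr fun O hO => ?_
  exact (hc.of_specializes (hγ a rfl) hO).mono Set.inter_subset_left

/-- A bound of the chains near `x` in its fibre gives a locally quasi-finite map to affine space near `x`. -/
theorem exists_quasiFinite_of_chainsLE (f : X ⟶ Y) [LocallyOfFiniteType f] {x : X} {U₀ : X.Opens}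
    (hxU₀ : x ∈ U₀) {e : ℕ} (hle : ChainsLE f U₀ (f x) e) :
    ∃ (U : X.Opens) (g : (U : Scheme.{u}) ⟶ AffineSpace (ULift.{u} (Fin e)) Y),
      x ∈ U ∧ U ≤ U₀ ∧ g ≫ (AffineSpace (ULift.{u} (Fin e)) Y ↘ Y) = U.ι ≫ f ∧
        LocallyQuasiFinite g ∧ LocallyOfFiniteType g := by
  obtain ⟨V, W, hV, hW, hxW, hWV, hWU⟩ := exists_chart_le f hxU₀
  let σ := ULift.{u} (Fin e)
  let π := AffineSpace σ Y ↘ Y
  let := (f.appLE V W hWV).hom.toAlgebra
  have : Algebra.FiniteType Γ(Y, V) Γ(X, W) := f.finiteType_appLE hV hW hWV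
  obtain ⟨t, ht⟩ := exists_quasiFiniteAt_aeval (A := Γ(Y, V)) (hW.primeIdealOf ⟨x, hxW⟩) (e := e)
    fun l hl => hle l.length (fun i => hW.fromSpec (l i))
      (fun i => ⟨hWU (hW.range_fromSpec.le ⟨l i, rfl⟩), by
        rw [← fromSpec_comap_appLE f hV hW hWV, ← RingHom.algebraMap_toAlgebra (f.appLE V W hWV).hom,
          hl i, RingHom.algebraMap_toAlgebra, fromSpec_comap_appLE f hV hW hWV, hW.fromSpec_primeIdealOf]⟩)
      fun i => ⟨((PrimeSpectrum.le_iff_specializes _ _).mp (l.step i).le).map hW.fromSpec.continuous,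
        fun h' => (show l i.castSucc < l i.succ from l.step i).ne
          (hW.fromSpec.isOpenEmbedding.injective h')⟩
  let ψ : MvPolynomial σ Γ(Y, V) →+* Γ(X, W) := (MvPolynomial.aeval (R := Γ(Y, V)) t).toRingHom
  let g₁ : (W : Scheme.{u}) ⟶ AffineSpace σ Y :=
    (hW.isoSpec.hom ≫ Spec.map (CommRingCat.ofHom ψ)) ≫ chart σ hV
  have hg₁ : g₁ ≫ π = W.ι ≫ f := by
    have h1 : Spec.map (CommRingCat.ofHom ψ) ≫
        Spec.map (CommRingCat.ofHom (algebraMap Γ(Y, V) (MvPolynomial σ Γ(Y, V)))) =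
        Spec.map (f.appLE V W hWV) := by
      rw [← Spec.map_comp]
      congr 1
      ext a
      exact (MvPolynomial.aeval (R := Γ(Y, V)) t).commutes a
    rw [Category.assoc, chart_over σ hV, Category.assoc, reassoc_of% h1,
      IsAffineOpen.SpecMap_appLE_fromSpec f hV hW hWV, ← IsAffineOpen.isoSpec_inv_ι, Category.assoc,
      Iso.hom_inv_id_assoc]
  haveI : LocallyOfFiniteType (g₁ ≫ π) := by rw [hg₁]; infer_instance
  haveI : LocallyOfFiniteType g₁ := locallyOfFiniteType_of_comp g₁ π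
  let U₁ : X.Opens := W.ι ''ᵁ g₁.quasiFiniteLocus
  have hU₁W : U₁ ≤ W := by
    rintro _ ⟨z, -, rfl⟩
    exact z.2
  have hxU₁ : x ∈ U₁ := by
    refine ⟨⟨x, hxW⟩, ?_, rfl⟩
    show g₁.QuasiFiniteAt ⟨x, hxW⟩
    rw [show g₁ = hW.isoSpec.hom ≫ (Spec.map (CommRingCat.ofHom ψ) ≫ chart σ hV) from
      Category.assoc _ _ _, Scheme.Hom.quasiFiniteAt_comp_iff_of_isOpenImmersion,
      Scheme.Hom.quasiFiniteAt_comp_iff]
    exact quasiFiniteAt_SpecMap (CommRingCat.ofHom ψ) _ ht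
  refine ⟨U₁, X.homOfLE hU₁W ≫ g₁, hxU₁, hU₁W.trans hWU,
    by rw [Category.assoc, hg₁, Scheme.homOfLE_ι_assoc], ?_, inferInstance⟩
  rw [← Scheme.Hom.quasiFiniteLocus_eq_top_iff, Scheme.Hom.quasiFiniteLocus_comp, eq_top_iff]
  rintro ⟨_, z, hz, rfl⟩ -
  show X.homOfLE hU₁W _ ∈ g₁.quasiFiniteLocus
  rw [Scheme.homOfLE_apply']
  exact hz

/-- At a maximal point of its fibre a flat morphism is flat over affine space of the fibre dimension. -/
theorem exists_flat_chart (f : X ⟶ Y) [Flat f] [LocallyOfFinitePresentation f] {x : X} {d : ℕ}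
    (hmax : IsFibMax f x) (hd : FlatMor.fibreDimAt f x = (d : WithBot ℕ∞)) :
    ∃ (U : X.Opens) (g : (U : Scheme.{u}) ⟶ AffineSpace (ULift.{u} (Fin d)) Y),
      x ∈ U ∧ g ≫ (AffineSpace (ULift.{u} (Fin d)) Y ↘ Y) = U.ι ≫ f ∧
        Flat g ∧ LocallyOfFinitePresentation g := by
  obtain ⟨U₀, hxU₀, hU₀⟩ := (fibreDimAt_le_iff f x).mp hd.le
  obtain ⟨U, g, hxU, -, hg, hqf, -⟩ := exists_quasiFinite_of_chainsLE f hxU₀ hU₀
  let π := AffineSpace (ULift.{u} (Fin d)) Y ↘ Y
  have hgy : π (g ⟨x, hxU⟩) = f x := by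
    rw [← Scheme.Hom.comp_apply, hg]; rfl
  -- the image is the generic point of the fibre of affine space
  obtain ⟨γ, hγy, hγ, -⟩ := exists_generic_affineSpace d (f x)
  have hgen : g ⟨x, hxU⟩ = γ := by
    obtain ⟨c, hc, hc'⟩ := (hasChain_closure_of_maximal f x
      (fun w hw hw' => hmax w hw (specializes_iff_mem_closure.mpr hw')) hd.ge).of_specializes
      specializes_rfl hxU
    obtain ⟨h1, h2⟩ := hasChain_image π f U g hg c (fun i => (hc i).1.1) (fun i => (hc i).2) hc'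
    have hsp : g ⟨x, hxU⟩ ⤳ g ⟨c 0, (hc 0).1.1⟩ :=
      (U.ι.isEmbedding.isInducing.specializes_iff.mp
        (specializes_iff_mem_closure.mpr (hc 0).1.2)).map g.continuous
    by_contra hne
    have hne0 : γ ≠ g ⟨c 0, (hc 0).1.1⟩ := fun e0 =>
      hne ((hsp.trans (specializes_of_eq e0.symm)).antisymm (hγ _ hgy)).eq
    have := chainsLE_affineSpace d (f x) (d + 1) (Fin.cons γ fun i => g ⟨c i, (hc i).1.1⟩)
      (fun i => ⟨trivial, Fin.cases (by simpa using hγy) (fun j => by simpa using h1 j) i⟩)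
      (fun i => by
        refine Fin.cases ?_ (fun j => ?_) i
        · simp only [Fin.castSucc_zero, Fin.cons_zero, Fin.cons_succ]
          exact ⟨hγ _ (h1 0), hne0⟩
        · simp only [Fin.castSucc_succ, Fin.cons_succ]
          exact h2 j)
    omega
  haveI : LocallyOfFinitePresentation (g ≫ π) := by rw [hg]; infer_instance
  have hflat : ∀ z, ((g ≫ π).stalkMap z).hom.Flat := fun z => by
    haveI : Flat (g ≫ π) := by rw [hg]; infer_instance
    exact Flat.stalkMap (g ≫ π) z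
  have hfib : FibCrit.FibFlat g π ⟨x, hxU⟩ := by
    let z := (g ≫ π).asFiber ⟨x, hxU⟩
    have hz : (g ≫ π).fiberι ((g ≫ π) ⟨x, hxU⟩) z = ⟨x, hxU⟩ := (g ≫ π).fiberι_asFiber _
    have h := FibCrit.fiberMap_flat_iff g π ((g ≫ π) ⟨x, hxU⟩) z
    rw [hz] at h
    refine h.mp ?_
    let s := (g ≫ π) ⟨x, hxU⟩
    let w := MoreMor.fiberMap g π s z
    have hs : s = f x := hgy
    have hw : π.fiberι s w = γ := by
      refine (Scheme.Hom.comp_apply _ _ _).symm.trans ((congr($(FibCrit.fiberMap_fiberι g π s) z)).trans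
        ((Scheme.Hom.comp_apply _ _ _).trans ?_))
      rw [hz]; exact hgen
    have hwη : w = genericPoint (π.fiber s) := by
      have hsp : w ⤳ genericPoint (π.fiber s) := by
        refine (π.fiberι s).isEmbedding.isInducing.specializes_iff.mp (hw ▸ hγ _ ?_)
        have : π.fiberι s (genericPoint (π.fiber s)) ∈ Set.range (π.fiberι s) := ⟨_, rfl⟩
        rw [Scheme.Hom.range_fiberι] at this
        exact this.trans hs
      exact (hsp.antisymm (genericPoint_specializes w)).eq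
    have hF : IsField ((π.fiber s).presheaf.stalk w) := by
      rw [hwη]
      exact Field.toIsField (π.fiber s).functionField
    letI := hF.toField
    letI := ((MoreMor.fiberMap g π s).stalkMap z).hom.toAlgebra
    show Module.Flat ((π.fiber s).presheaf.stalk w) _
    infer_instance
  obtain ⟨-, hgx⟩ := (FibCrit.pointwise g π ⟨x, hxU⟩).mp ⟨hflat _, hfib⟩
  have hπ : (π.stalkMap (g ⟨x, hxU⟩)).hom.Flat :=
    ((FibCrit.pointwise g π ⟨x, hxU⟩).mp ⟨hflat _, hfib⟩).1
  let U₂ : (U : Scheme.{u}).Opens := ⟨_, FibCrit.isOpen g π⟩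
  let U₁ : X.Opens := U.ι ''ᵁ U₂
  have hU₁U : U₁ ≤ U := by
    rintro _ ⟨z, -, rfl⟩
    exact z.2
  refine ⟨U₁, X.homOfLE hU₁U ≫ g, ⟨⟨x, hxU⟩, ⟨hπ, hgx⟩, rfl⟩,
    by rw [Category.assoc, hg, Scheme.homOfLE_ι_assoc], ?_, ?_⟩
  · refine Flat.of_stalkMap _ fun z => ?_
    erw [Scheme.Hom.stalkMap_comp, CommRingCat.hom_comp]
    refine RingHom.Flat.comp ?_ (Flat.stalkMap (X.homOfLE hU₁U) z)
    obtain ⟨z', hz', e⟩ := z.2
    have h' : X.homOfLE hU₁U z ∈ U₂ := by
      rw [show X.homOfLE hU₁U z = z' from U.ι.isEmbedding.injective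
        ((Scheme.Hom.comp_apply _ _ _).symm.trans ((congr($(X.homOfLE_ι hU₁U) z)).trans e.symm))]
      exact hz'
    exact h'.2
  · haveI : LocallyOfFinitePresentation ((X.homOfLE hU₁U ≫ g) ≫ π) := by
      rw [Category.assoc]; infer_instance
    exact Groth.Agent.LimDesc.lfp_of_comp _ π

end Groth.Agent.EquidimPt

namespace Groth.Agent.EquidimPt

/-- Chains lift along flat morphisms, starting from a lift of the last point. -/
theorem exists_lift {X A : Scheme.{u}} {O : X.Opens} {Z : Scheme.{u}} {ι : Z ⟶ X} (g : Z ⟶ A) [Flat g] :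
    ∀ {k : ℕ} (c : Fin (k + 1) → A), IsChain' c → (∀ i, ∃ z, ι z ∈ O ∧ g z = c i) →
      ∃ b : Fin (k + 1) → Z, (∀ i, ι (b i) ∈ O ∧ g (b i) = c i) ∧
        ∀ i : Fin k, b i.castSucc ⤳ b i.succ := by
  intro k
  induction k with
  | zero =>
    intro c _ h
    obtain ⟨z, hz⟩ := h 0
    exact ⟨fun _ => z, fun i => by rw [Fin.fin_one_eq_zero i]; exact hz, fun i => i.elim0⟩
  | succ k ih =>
    intro c hc h
    obtain ⟨b, hb, hb'⟩ := ih (fun i => c i.succ) (fun i => hc i.succ) fun i => h i.succ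
    obtain ⟨z, hz, hzg⟩ := Flat.generalizingMap g (a := b 0) (show c 0 ⤳ g (b 0) by
      rw [(hb 0).2]; exact (hc 0).1)
    refine ⟨Fin.cons z b, fun i => ?_, fun i => ?_⟩
    · refine Fin.cases ?_ (fun j => ?_) i
      · exact ⟨(hz.map ι.continuous).mem_open O.2 (hb 0).1, by simpa using hzg⟩
      · simpa using hb j
    · refine Fin.cases ?_ (fun j => ?_) i
      · simpa using hz
      · simpa using hb' j

end Groth.Agent.EquidimPt

namespace Groth.Agent.EquidimPt

/-- Fibre dimensions are at least `d` on a flat chart into affine space of rank `d`. -/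
theorem le_fibreDimAt_of_chart {X Y : Scheme.{u}} (f : X ⟶ Y) {d : ℕ} {U : X.Opens}
    (g : (U : Scheme.{u}) ⟶ AffineSpace (ULift.{u} (Fin d)) Y) [Flat g] [LocallyOfFinitePresentation g]
    (hg : g ≫ (AffineSpace (ULift.{u} (Fin d)) Y ↘ Y) = U.ι ≫ f) {z : X} (hz : z ∈ U) :
    (d : WithBot ℕ∞) ≤ FlatMor.fibreDimAt f z := by
  refine (Unibranch.natCast_le_fibreDimAt_iff f z).mpr fun O hO => ?_
  let π := AffineSpace (ULift.{u} (Fin d)) Y ↘ Y
  have hπg : ∀ w : (U : Scheme.{u}), π (g w) = f (U.ι w) := fun w => by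
    rw [← Scheme.Hom.comp_apply, hg]; rfl
  let P : (AffineSpace (ULift.{u} (Fin d)) Y).Opens :=
    ⟨g '' (U.ι ⁻¹ᵁ O : (U : Scheme.{u}).Opens), g.isOpenMap _ (U.ι ⁻¹ᵁ O).2⟩
  have ha : g ⟨z, hz⟩ ∈ P := ⟨⟨z, hz⟩, hO, rfl⟩
  obtain ⟨c, hc, hc'⟩ := (Unibranch.natCast_le_fibreDimAt_iff π _).mp (le_fibreDimAt_affineSpace d _) P ha
  obtain ⟨b, hb1, hb2⟩ := exists_lift (ι := U.ι) (O := O) g c hc' fun i => (hc i).1
  refine ⟨fun i => U.ι (b i), fun i => ⟨(hb1 i).1, ?_⟩, fun i => ⟨(hb2 i).map U.ι.continuous, fun h => ?_⟩⟩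
  · rw [← hπg, (hb1 i).2, (hc i).2, hπg]
    rfl
  · exact (hc' i).2 (by rw [← (hb1 _).2, ← (hb1 _).2, U.ι.isEmbedding.injective h])

end Groth.Agent.EquidimPt
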