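import Groth.Agent.EquidimPt.Cut

/-!
# Fibre dimensions along points of given codimension in an equidimensional scheme
-/

set_option autoImplicit false
universe u

open CategoryTheory AlgebraicGeometry Topology TopologicalSpace Limits
open Groth.Agent.Unibranch

namespace Groth.Agent.EquidimPt

variable {X Y : Scheme.{u}}

/-- All chains of generisations of `ξ` ending at it have length at most `k`. -/
def GenChainsLE (ξ : X) (k : ℕ) : Prop :=
  ∀ (n : ℕ) (c : Fin (n + 1) → X), IsChain' c → c (Fin.last n) = ξ → n ≤ k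

theorem fromSpecStalk_le_iff (ξ : X) (a b : PrimeSpectrum (X.presheaf.stalk ξ)) :
    a ≤ b ↔ X.fromSpecStalk ξ a ⤳ X.fromSpecStalk ξ b :=
  (PrimeSpectrum.le_iff_specializes a b).trans
    (X.fromSpecStalk ξ).isEmbedding.isInducing.specializes_iff.symm

theorem exists_fromSpecStalk_eq {ξ z : X} (h : z ⤳ ξ) :
    ∃ a : PrimeSpectrum (X.presheaf.stalk ξ), X.fromSpecStalk ξ a = z := by
  have : z ∈ Set.range (X.fromSpecStalk ξ) := by rw [Scheme.range_fromSpecStalk]; exact h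
  exact this

theorem genChainsLE_of_ringKrullDim_le (ξ : X) {k : ℕ}
    (h : ringKrullDim (X.presheaf.stalk ξ) ≤ (k : WithBot ℕ∞)) : GenChainsLE ξ k := by
  intro n c hc hlast
  have hsp : ∀ i, c i ⤳ ξ := fun i => by
    induction i using Fin.reverseInduction with
    | last => rw [hlast]
    | cast i hi => exact (hc i).1.trans hi
  choose a ha using fun i => exists_fromSpecStalk_eq (hsp i)
  let l : LTSeries (PrimeSpectrum (X.presheaf.stalk ξ)) :=
    ⟨n, a, fun i => lt_of_le_of_ne ((fromSpecStalk_le_iff ξ _ _).mpr (by rw [ha, ha]; exact (hc i).1))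
      fun e => (hc i).2 (by rw [← ha, ← ha, e])⟩
  have := (Order.LTSeries.length_le_krullDim l).trans h
  exact ENat.natCast_le_natCast.mp (WithBot.coe_le_coe.mp this)

/-- A non-maximal point of a locally Noetherian scheme is covered by a generisation. -/
theorem exists_covered [IsLocallyNoetherian X] {ξ : X} (h : ¬ IsMaxPt ξ) :
    ∃ w, w ⤳ ξ ∧ w ≠ ξ ∧ ∀ z, w ⤳ z → z ⤳ ξ → z = w ∨ z = ξ := by
  obtain ⟨z, hz, hzne⟩ : ∃ z, z ⤳ ξ ∧ z ≠ ξ := by
    by_contra! hcon
    exact h hcon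
  obtain ⟨a, ha⟩ := exists_fromSpecStalk_eq hz
  have hcl : X.fromSpecStalk ξ (IsLocalRing.closedPoint _) = ξ := Scheme.fromSpecStalk_closedPoint
  obtain ⟨J, ⟨hJ, hJm⟩, hmax⟩ := set_has_maximal_iff_noetherian.mpr
    (inferInstance : IsNoetherianRing (X.presheaf.stalk ξ))
    {J : Ideal (X.presheaf.stalk ξ) | J.IsPrime ∧ J ≠ IsLocalRing.maximalIdeal _}
    ⟨a.asIdeal, a.2, fun e => hzne (by
      rw [← ha, show a = IsLocalRing.closedPoint _ from PrimeSpectrum.ext e, hcl])⟩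
  let w := X.fromSpecStalk ξ ⟨J, hJ⟩
  have hwξ : w ⤳ ξ := (specializes_of_eq rfl).trans
    (hcl ▸ (fromSpecStalk_le_iff ξ _ _).mp (show (⟨J, hJ⟩ : PrimeSpectrum _) ≤ IsLocalRing.closedPoint _ from
      IsLocalRing.le_maximalIdeal hJ.ne_top))
  refine ⟨w, hwξ, fun e => hJm ?_, fun v hwv hvξ => ?_⟩
  · exact congrArg PrimeSpectrum.asIdeal ((X.fromSpecStalk ξ).isEmbedding.injective (e.trans hcl.symm))
  · obtain ⟨b, hb⟩ := exists_fromSpecStalk_eq hvξ
    by_cases hbm : b.asIdeal = IsLocalRing.maximalIdeal _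
    · exact Or.inr (by rw [← hb, show b = IsLocalRing.closedPoint _ from PrimeSpectrum.ext hbm, hcl])
    · refine Or.inl ?_
      have hle : J ≤ b.asIdeal := (fromSpecStalk_le_iff ξ ⟨J, hJ⟩ b).mpr (by rw [hb]; exact hwv)
      have : J = b.asIdeal := by
        by_contra hne'
        exact hmax b.asIdeal ⟨b.2, hbm⟩ (lt_of_le_of_ne hle hne')
      rw [← hb]
      exact congrArg (X.fromSpecStalk ξ) (PrimeSpectrum.ext this.symm)

/-- In an equidimensional open the fibre dimension of a closure drops at most by the codimension,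
and by less off the maximal points of the base. -/
theorem hasChain_of_genChainsLE [IsLocallyNoetherian X] (f : X ⟶ Y) [LocallyOfFiniteType f]
    (U : X.Opens) {e : ℕ} (hmax : ∀ ζ ∈ U, IsMaxPt ζ → IsMaxPt (f ζ))
    (hge : ∀ ζ ∈ U, IsMaxPt ζ → HasChain f (closure {ζ}) (f ζ) e) :
    ∀ k ≤ e, ∀ ξ ∈ U, GenChainsLE ξ k →
      HasChain f (closure {ξ}) (f ξ) (e - k) ∧
        (¬ IsMaxPt (f ξ) → HasChain f (closure {ξ}) (f ξ) (e - k + 1)) := by
  intro k
  induction k with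
  | zero =>
    intro _ ξ hξ hk
    have hξm : IsMaxPt ξ := fun z hz => by
      by_contra hne
      have := hk 1 ![z, ξ] (fun i => by fin_cases i; exact ⟨hz, hne⟩) rfl
      omega
    exact ⟨hge ξ hξ hξm, fun h => absurd (hmax ξ hξ hξm) h⟩
  | succ k ih =>
    intro hk ξ hξ hgen
    by_cases hξm : IsMaxPt ξ
    · exact ⟨(hge ξ hξ hξm).anti (Nat.sub_le _ _), fun h => absurd (hmax ξ hξ hξm) h⟩
    obtain ⟨w, hw, hne, hcov⟩ := exists_covered hξm
    have hwk : GenChainsLE w k := fun n c hc hlast => by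
      have := hgen (n + 1) (Fin.snoc c ξ) (fun i => by
        refine Fin.lastCases ?_ (fun j => ?_) i
        · simp only [Fin.succ_last, Fin.snoc_last, Fin.snoc_castSucc, hlast]
          exact ⟨hw, hne⟩
        · simp only [← Fin.castSucc_succ, Fin.snoc_castSucc]
          exact hc j) (Fin.snoc_last _ _)
      omega
    obtain ⟨h1, h2⟩ := ih (Nat.le_of_succ_le hk) w (hw.mem_open U.2 hξ) hwk
    have he : e - k = (e - (k + 1)) + 1 := by omega
    rw [he] at h1 h2
    obtain ⟨h3, h4⟩ := hasChain_step f hw hne hcov h1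
    refine ⟨h3, fun hfξ => ?_⟩
    by_cases hfw : IsMaxPt (f w)
    · exact h4 fun e' => hfξ (e' ▸ hfw)
    · exact (hasChain_step f hw hne hcov (h2 hfw)).1

/-- Chains are transported along a closed immersion. -/
theorem hasChain_comp {Z : Scheme.{u}} (ι : Z ⟶ X) [IsClosedImmersion ι] (f : X ⟶ Y) {a : Z} {y : Y}
    {k : ℕ} : HasChain (ι ≫ f) (closure {a}) y k ↔ HasChain f (closure {ι a}) y k := by
  have hsp : ∀ p q, ι p ⤳ ι q ↔ p ⤳ q := fun p q => ι.isEmbedding.isInducing.specializes_iff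
  constructor
  · rintro ⟨c, hc, hc'⟩
    exact ⟨fun i => ι (c i), fun i => ⟨((specializes_iff_mem_closure.mpr (hc i).1).map ι.continuous).mem_closure,
      (Scheme.Hom.comp_apply _ _ _).symm.trans (hc i).2⟩,
      fun i => ⟨(hsp _ _).mpr (hc' i).1, fun e => (hc' i).2 (ι.isEmbedding.injective e)⟩⟩
  · rintro ⟨c, hc, hc'⟩
    choose d hd using fun i => (specializes_iff_mem_closure.mpr (hc i).1).mem_closed
      ι.isClosedEmbedding.isClosed_range ⟨a, rfl⟩
    refine ⟨d, fun i => ⟨specializes_iff_mem_closure.mp ((hsp _ _).mp ?_), ?_⟩, fun i => ⟨(hsp _ _).mp ?_, ?_⟩⟩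
    · rw [hd]; exact specializes_iff_mem_closure.mpr (hc i).1
    · rw [Scheme.Hom.comp_apply, hd]; exact (hc i).2
    · rw [hd, hd]; exact (hc' i).1
    · exact fun e => (hc' i).2 (by rw [← hd, ← hd, e])

/-- Equidimensionality of a reduced closed subscheme, read in the ambient scheme. -/
theorem isEquidimAt_closed [IsLocallyNoetherian X] (f : X ⟶ Y) [LocallyOfFiniteType f] (T : Closeds X)
    (w : ↥(Scheme.IdealSheafData.vanishingIdeal T).subscheme) (x : X)
    (hwx : (Scheme.IdealSheafData.vanishingIdeal T).subschemeι w = x) {e : ℕ}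
    (hT : ∀ ξ ∈ (T : Set X), ξ ⤳ x → (∀ z ∈ (T : Set X), z ⤳ ξ → z = ξ) →
      IsMaxPt (f ξ) ∧ HasChain f (closure {ξ}) (f ξ) e)
    (hfib : ∃ U : X.Opens, x ∈ U ∧ ChainsLE f ((U : Set X) ∩ T) (f x) e) :
    EGA43.IsEquidimAt ((Scheme.IdealSheafData.vanishingIdeal T).subschemeι ≫ f) w := by
  let ι := (Scheme.IdealSheafData.vanishingIdeal T).subschemeι
  have hr : Set.range ι = (T : Set X) := by
    rw [Scheme.IdealSheafData.range_subschemeι, Scheme.IdealSheafData.coe_support_vanishingIdeal]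
    try rfl
  haveI : IsLocallyNoetherian (Scheme.IdealSheafData.vanishingIdeal T).subscheme :=
    LocallyOfFiniteType.isLocallyNoetherian ι
  have key : ∀ ζ, IsMaxPt ζ → ζ ⤳ w → IsMaxPt (f (ι ζ)) ∧ HasChain f (closure {ι ζ}) (f (ι ζ)) e :=
    fun ζ hζ hζw => hT (ι ζ) (hr.le ⟨ζ, rfl⟩) (hwx ▸ hζw.map ι.continuous) fun z hz hzζ => by
      obtain ⟨z', rfl⟩ := hr.ge hz
      rw [hζ z' (ι.isEmbedding.isInducing.specializes_iff.mp hzζ)]
  refine isEquidimAt_of_components (ι ≫ f) w (e := e) (fun ζ hζ hζw => ?_) (fun ζ hζ hζw => ?_) ?_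
  · rw [Scheme.Hom.comp_apply]; exact (key ζ hζ hζw).1
  · rw [Scheme.Hom.comp_apply]; exact (hasChain_comp ι f).mpr (key ζ hζ hζw).2
  · obtain ⟨U, hxU, hU⟩ := hfib
    refine ⟨ι ⁻¹ᵁ U, show ι w ∈ U by rw [hwx]; exact hxU, fun k c hc hc' =>
      hU k (fun i => ι (c i)) (fun i => ⟨⟨(hc i).1, hr.le ⟨_, rfl⟩⟩, ?_⟩) fun i =>
        ⟨(hc' i).1.map ι.continuous, fun e => (hc' i).2 (ι.isEmbedding.injective e)⟩⟩
    rw [← Scheme.Hom.comp_apply, (hc i).2, Scheme.Hom.comp_apply, hwx]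

/-- The common fibre dimension of an equidimensional morphism is the local fibre dimension. -/
theorem exists_fibreDimAt_data (f : X ⟶ Y) [LocallyOfFiniteType f] (x : X) (h : EGA43.IsEquidimAt f x) :
    ∃ (e : ℕ) (U : X.Opens), x ∈ U ∧ FlatMor.fibreDimAt f x = (e : WithBot ℕ∞) ∧
      (∀ ζ ∈ U, IsMaxPt ζ → IsMaxPt (f ζ)) ∧
      (∀ ζ ∈ U, IsMaxPt ζ → HasChain f (closure {ζ}) (f ζ) e) ∧
      (∀ y, ChainsLE f U y e) ∧
      ∀ m ∈ U, IsFibMax f m → HasChain f ((U : Set X) ∩ closure {m}) (f m) e := by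
  obtain ⟨e, U, hxU, hmax, hle, hge⟩ := (isEquidimAt_iff f x).mp h
  have hge' : ∀ ζ ∈ U, IsMaxPt ζ → HasChain f (closure {ζ}) (f ζ) e := fun ζ hζ hm =>
    (hge ζ hζ (isFibMax_of_isMaxPt f hm)).mono Set.inter_subset_right
  obtain ⟨ζ, hζm, hζx⟩ := exists_isMaxPt_specializes x
  refine ⟨e, U, hxU, le_antisymm ((fibreDimAt_le_iff f x).mpr ⟨U, hxU, hle _⟩)
    ((natCast_le_fibreDimAt_iff f x).mpr fun O hO =>
      ((hge' ζ (hζx.mem_open U.2 hxU) hζm).of_specializes hζx hO).mono Set.inter_subset_left),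
    fun ζ hζ hm => (hmax ζ hζ hm).1, hge', hle, hge⟩

end Groth.Agent.EquidimPt
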