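import Groth.Agent.EquidimPt.Char

/-!
# Fibres of affine spaces, and locally quasi-finite maps to affine spaces
-/

set_option autoImplicit false
universe u

open CategoryTheory AlgebraicGeometry Topology TopologicalSpace Limits
open Groth.Agent.Unibranch

namespace Groth.Agent.EquidimPt

variable {X Y : Scheme.{u}}

/-- The chart of affine space over an affine open of the base. -/
noncomputable def chart (σ : Type u) {V : Y.Opens} (hV : IsAffineOpen V) :
    Spec (CommRingCat.of (MvPolynomial σ Γ(Y, V))) ⟶ AffineSpace σ Y :=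
  (AffineSpace.SpecIso σ Γ(Y, V)).inv ≫ AffineSpace.map σ hV.fromSpec

instance isOpenImmersion_chart (σ : Type u) {V : Y.Opens} (hV : IsAffineOpen V) :
    IsOpenImmersion (chart σ hV) := by
  haveI : IsOpenImmersion (AffineSpace.map σ hV.fromSpec) :=
    MorphismProperty.IsStableUnderBaseChange.of_isPullback
      (P := (@IsOpenImmersion : MorphismProperty Scheme.{u}))
      (AffineSpace.isPullback_map hV.fromSpec).flip inferInstance
  delta chart
  infer_instance

theorem chart_over (σ : Type u) {V : Y.Opens} (hV : IsAffineOpen V) :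
    chart σ hV ≫ (AffineSpace σ Y ↘ Y) =
      Spec.map (CommRingCat.ofHom (algebraMap Γ(Y, V) (MvPolynomial σ Γ(Y, V)))) ≫ hV.fromSpec := by
  rw [chart, Category.assoc, AffineSpace.map_over, AffineSpace.SpecIso_inv_over_assoc]
  rfl

theorem chart_pt (σ : Type u) {V : Y.Opens} (hV : IsAffineOpen V)
    (P : PrimeSpectrum (MvPolynomial σ Γ(Y, V))) :
    (AffineSpace σ Y ↘ Y) (chart σ hV P) =
      hV.fromSpec (PrimeSpectrum.comap (algebraMap Γ(Y, V) (MvPolynomial σ Γ(Y, V))) P) :=
  (Scheme.Hom.comp_apply _ _ _).symm.trans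
    ((congr($(chart_over σ hV) P)).trans (Scheme.Hom.comp_apply _ _ _))

theorem range_chart (σ : Type u) {V : Y.Opens} (hV : IsAffineOpen V) :
    Set.range (chart σ hV) = (AffineSpace σ Y ↘ Y) ⁻¹' V := by
  refine Set.Subset.antisymm ?_ fun a ha => ?_
  · rintro _ ⟨P, rfl⟩
    show _ ∈ (V : Set Y)
    rw [chart_pt]
    exact hV.range_fromSpec.le ⟨_, rfl⟩
  · obtain ⟨z, hz1, -⟩ := Scheme.exists_preimage_of_isPullback
      (AffineSpace.isPullback_map hV.fromSpec (n := σ)) a _
      (hV.range_fromSpec.ge ha).choose_spec.symm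
    refine ⟨(AffineSpace.SpecIso σ Γ(Y, V)).hom z, ?_⟩
    refine (Scheme.Hom.comp_apply _ _ _).symm.trans (Eq.trans ?_ hz1)
    exact congr($(Iso.hom_inv_id_assoc (AffineSpace.SpecIso σ Γ(Y, V))
      (AffineSpace.map σ hV.fromSpec)) z)

/-- Chains in the fibres of affine space of rank `e` have length at most `e`. -/
theorem chainsLE_affineSpace (e : ℕ) (y : Y) :
    ChainsLE (AffineSpace (ULift.{u} (Fin e)) Y ↘ Y) Set.univ y e := by
  intro k c hc hc'
  obtain ⟨V, hV, hyV, -⟩ := exists_isAffineOpen_mem_and_subset (x := y) (U := ⊤) trivial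
  let M := MvPolynomial (ULift.{u} (Fin e)) Γ(Y, V)
  have hmem : ∀ i, c i ∈ Set.range (chart (ULift.{u} (Fin e)) hV) := fun i => by
    rw [range_chart]
    show _ ∈ (V : Set Y)
    rw [(hc i).2]
    exact hyV
  choose P hP using hmem
  let l : LTSeries (PrimeSpectrum M) :=
    ⟨k, fun i => P i, fun i => lt_of_le_of_ne ((PrimeSpectrum.le_iff_specializes _ _).mpr
      ((chart _ hV).isOpenEmbedding.isInducing.specializes_iff.mp (by rw [hP, hP]; exact (hc' i).1)))
      fun h => (hc' i).2 (by rw [← hP, ← hP]; exact congrArg (chart _ hV) h)⟩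
  have hl : ∀ i, PrimeSpectrum.comap (algebraMap Γ(Y, V) M) (l i) =
      PrimeSpectrum.comap (algebraMap Γ(Y, V) M) (P 0) := fun i => by
    apply hV.fromSpec.isOpenEmbedding.injective
    show hV.fromSpec (PrimeSpectrum.comap _ (P i)) = _
    rw [← chart_pt, ← chart_pt, hP, hP, (hc i).2, (hc 0).2]
  have h0 : (P 0).asIdeal ≤ (l 0).asIdeal := le_rfl
  refine (length_le_rdim (A := Γ(Y, V)) (P 0) l hl h0).trans ?_
  refine (rdim_le_of_quasiFiniteAt (A := Γ(Y, V)) (σ := ULift.{u} (Fin e)) MvPolynomial.X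
    (P 0).asIdeal ?_).trans_eq (by rw [Nat.card_eq_fintype_card, Fintype.card_ulift, Fintype.card_fin])
  have hid : (MvPolynomial.aeval (R := Γ(Y, V)) (MvPolynomial.X : ULift.{u} (Fin e) → M)).toRingHom =
      RingHom.id M := by
    rw [MvPolynomial.aeval_X_left]
    rfl
  rw [hid]
  exact Algebra.QuasiFinite.of_isLocalization (P 0).asIdeal.primeCompl

/-- Generisations lift along the projection of affine space. -/
theorem exists_specializes_affineSpace (σ : Type u) (a : ↥(AffineSpace σ Y)) {y : Y}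
    (h : y ⤳ (AffineSpace σ Y ↘ Y) a) : ∃ b, b ⤳ a ∧ (AffineSpace σ Y ↘ Y) b = y :=
  exists_specializes_of_isOpenAt _
    (fun _ hU => (AffineSpace.isOpenMap_over Y).image_mem_nhds hU) h

/-- Maximal points of affine space lie over maximal points of the base. -/
theorem isMaxPt_over (σ : Type u) {a : ↥(AffineSpace σ Y)} (ha : IsMaxPt a) :
    IsMaxPt ((AffineSpace σ Y ↘ Y) a) := fun y hy => by
  obtain ⟨b, hb, rfl⟩ := exists_specializes_affineSpace σ a hy
  rw [ha b hb]

/-- Comparable points with the same image under a locally quasi-finite morphism are equal. -/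
theorem eq_of_specializes {Z W : Scheme.{u}} (g : Z ⟶ W) [LocallyQuasiFinite g] {a b : Z}
    (h : a ⤳ b) (hg : g a = g b) : a = b := by
  haveI : DiscreteTopology ↥(g ⁻¹' {g b}) := (g.isDiscrete_preimage_singleton (g b)).to_subtype
  have h1 : (⟨a, hg⟩ : ↥(g ⁻¹' {g b})) ⤳ ⟨b, rfl⟩ := (subtype_specializes_iff _ _).mpr h
  exact congrArg Subtype.val h1.eq

/-- Chains in a fibre map to chains under a locally quasi-finite morphism over the base. -/
theorem hasChain_image {A : Scheme.{u}} (π : A ⟶ Y) (f : X ⟶ Y) (U : X.Opens) (g : (U : Scheme.{u}) ⟶ A)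
    [LocallyQuasiFinite g] (hg : g ≫ π = U.ι ≫ f) {y : Y} {k : ℕ} (c : Fin (k + 1) → X)
    (hcU : ∀ i, c i ∈ U) (hcy : ∀ i, f (c i) = y) (hc : IsChain' c) :
    (∀ i, π (g ⟨c i, hcU i⟩) = y) ∧ IsChain' fun i => g ⟨c i, hcU i⟩ := by
  refine ⟨fun i => ?_, fun i => ?_⟩
  · rw [← hcy i, ← Scheme.Hom.comp_apply, hg]
    rfl
  · have hsp : (⟨c i.castSucc, hcU _⟩ : (U : Scheme.{u})) ⤳ ⟨c i.succ, hcU _⟩ :=
      U.ι.isEmbedding.isInducing.specializes_iff.mp (hc i).1
    exact ⟨hsp.map g.continuous, fun h => (hc i).2 (congrArg U.ι (eq_of_specializes g hsp h))⟩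

/-- Chains in the fibres of a scheme locally quasi-finite over affine space of rank `e`. -/
theorem chainsLE_of_quasiFinite (f : X ⟶ Y) {e : ℕ} (U : X.Opens)
    (g : (U : Scheme.{u}) ⟶ AffineSpace (ULift.{u} (Fin e)) Y) [LocallyQuasiFinite g]
    (hg : g ≫ (AffineSpace (ULift.{u} (Fin e)) Y ↘ Y) = U.ι ≫ f) (y : Y) : ChainsLE f U y e := by
  intro k c hc hc'
  obtain ⟨h1, h2⟩ := hasChain_image _ f U g hg c (fun i => (hc i).1) (fun i => (hc i).2) hc'
  exact chainsLE_affineSpace e y k _ (fun i => ⟨trivial, h1 i⟩) h2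

end Groth.Agent.EquidimPt
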