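import Groth.Agent.EquidimPt.Height

/-!
# Equidimensionality of an irreducible component, without noetherian hypotheses
-/

set_option autoImplicit false
universe u

open CategoryTheory AlgebraicGeometry Topology TopologicalSpace Limits
open Groth.Agent.Unibranch

namespace Groth.Agent.EquidimPt

variable {X Y : Scheme.{u}}

/-- `isEquidimAt_of_components` when all maximal points near `x` are known to specialise to `x`. -/
theorem isEquidimAt_of_near (f : X ⟶ Y) [LocallyOfFiniteType f] (x : X) {e : ℕ}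
    (hnear : ∃ U : X.Opens, x ∈ U ∧ ∀ ζ ∈ U, IsMaxPt ζ → ζ ⤳ x)
    (hmax : ∀ ζ : X, IsMaxPt ζ → ζ ⤳ x → IsMaxPt (f ζ))
    (hgen : ∀ ζ : X, IsMaxPt ζ → ζ ⤳ x → HasChain f (closure {ζ}) (f ζ) e)
    (hfib : ∃ U : X.Opens, x ∈ U ∧ ChainsLE f U (f x) e) : EGA43.IsEquidimAt f x := by
  obtain ⟨U, hxU, hU⟩ := hfib
  obtain ⟨U', hxU', -, hU'⟩ := exists_opens_chainsLE f hxU hU
  obtain ⟨U₀, hxU₀, hU₀⟩ := hnear
  rw [isEquidimAt_iff]
  refine ⟨e, U' ⊓ U₀, ⟨hxU', hxU₀⟩, fun ζ hζ hζm => ⟨hmax ζ hζm (hU₀ ζ hζ.2 hζm),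
    (hU₀ ζ hζ.2 hζm).map f.continuous⟩, fun y => (hU' y).mono fun z hz => hz.1, fun m hm hmm => ?_⟩
  obtain ⟨ζ, hζm, hζ⟩ := exists_isMaxPt_specializes m
  have hζU₀ : ζ ∈ U₀ := hζ.mem_open U₀.2 hm.2
  obtain ⟨O, hmO, hOU, hO⟩ := exists_opens_maximal f (U := U' ⊓ U₀) hm (f m)
  obtain ⟨c, hc, hc'⟩ := (hgen ζ hζm (hU₀ ζ hζU₀ hζm)).of_specializes hζ hmO
  obtain ⟨m', hm'm, hm'c, hfm', -, -⟩ := hO _ (hc 0).1.1 (hc 0).2
  obtain rfl : m' = m := hmm m' hfm' hm'm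
  exact ⟨c, fun i => ⟨⟨hOU (hc i).1.1,
    specializes_iff_mem_closure.mp (hm'c.trans (specializes_of_chain c hc' i))⟩, (hc i).2⟩, hc'⟩

/-- Equidimensionality at `x` of the reduced component with generic point `ζ`. -/
theorem isEquidimAt_component (f : X ⟶ Y) [LocallyOfFiniteType f] {ζ x : X} (hζx : ζ ⤳ x)
    (hmax : IsMaxPt (f ζ)) {e : ℕ} (hgen : HasChain f (closure {ζ}) (f ζ) e)
    (hfib : ∃ U : X.Opens, x ∈ U ∧ ChainsLE f ((U : Set X) ∩ closure {ζ}) (f x) e) :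
    ∃ w : ↥(Scheme.IdealSheafData.vanishingIdeal (Closeds.closure ({ζ} : Set X))).subscheme,
      (Scheme.IdealSheafData.vanishingIdeal (Closeds.closure ({ζ} : Set X))).subschemeι w = x ∧
      EGA43.IsEquidimAt
        ((Scheme.IdealSheafData.vanishingIdeal (Closeds.closure ({ζ} : Set X))).subschemeι ≫ f) w := by
  let ι := (Scheme.IdealSheafData.vanishingIdeal (Closeds.closure ({ζ} : Set X))).subschemeι
  have hr : Set.range ι = closure {ζ} := by
    rw [Scheme.IdealSheafData.range_subschemeι, Scheme.IdealSheafData.coe_support_vanishingIdeal]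
    try rfl
  obtain ⟨w, hwx⟩ := hr.ge hζx.mem_closure
  obtain ⟨a, ha⟩ := hr.ge (subset_closure (Set.mem_singleton ζ))
  have hsp : ∀ p q, ι p ⤳ ι q ↔ p ⤳ q := fun p q => ι.isEmbedding.isInducing.specializes_iff
  have huniq : ∀ z, IsMaxPt z → z = a := fun z hz =>
    (hz a ((hsp a z).mp (by rw [ha]; exact specializes_iff_mem_closure.mpr (hr.le ⟨z, rfl⟩)))).symm
  refine ⟨w, hwx, isEquidimAt_of_near (ι ≫ f) w (e := e)
    ⟨⊤, trivial, fun z _ hz => huniq z hz ▸ (hsp a w).mp (by rw [ha, hwx]; exact hζx)⟩ (fun z hz _ => ?_)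
    (fun z hz _ => ?_) ?_⟩
  · rw [huniq z hz, Scheme.Hom.comp_apply, ha]; exact hmax
  · rw [huniq z hz, Scheme.Hom.comp_apply]
    exact (hasChain_comp ι f).mpr (by rw [ha]; exact hgen)
  · obtain ⟨U, hxU, hU⟩ := hfib
    refine ⟨ι ⁻¹ᵁ U, show ι w ∈ U by rw [hwx]; exact hxU, fun k c hc hc' =>
      hU k (fun i => ι (c i)) (fun i => ⟨⟨(hc i).1, hr.le ⟨_, rfl⟩⟩, ?_⟩) fun i =>
        ⟨(hc' i).1.map ι.continuous, fun h => (hc' i).2 (ι.isEmbedding.injective h)⟩⟩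
    rw [← Scheme.Hom.comp_apply, (hc i).2, Scheme.Hom.comp_apply, hwx]

/-- What equidimensionality of a reduced component at a point says in the ambient scheme. -/
theorem exists_component_data (f : X ⟶ Y) [LocallyOfFiniteType f] {W : Closeds X}
    (hW : (W : Set X) ∈ irreducibleComponents (X : Type u))
    (w : ↥(Scheme.IdealSheafData.vanishingIdeal W).subscheme) {x : X}
    (hwx : (Scheme.IdealSheafData.vanishingIdeal W).subschemeι w = x)
    (h : EGA43.IsEquidimAt ((Scheme.IdealSheafData.vanishingIdeal W).subschemeι ≫ f) w) :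
    ∃ (ζ : X) (e : ℕ), IsMaxPt ζ ∧ (W : Set X) = closure {ζ} ∧ ζ ⤳ x ∧ IsMaxPt (f ζ) ∧
      HasChain f (closure {ζ}) (f ζ) e ∧
      ∃ U : X.Opens, x ∈ U ∧ ChainsLE f ((U : Set X) ∩ closure {ζ}) (f x) e := by
  let ι := (Scheme.IdealSheafData.vanishingIdeal W).subschemeι
  have hr : Set.range ι = (W : Set X) := by
    rw [Scheme.IdealSheafData.range_subschemeι, Scheme.IdealSheafData.coe_support_vanishingIdeal]
    try rfl
  have hsp : ∀ p q, ι p ⤳ ι q ↔ p ⤳ q := fun p q => ι.isEmbedding.isInducing.specializes_iff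
  obtain ⟨ζ, hζ, hζW⟩ := exists_isMaxPt hW
  obtain ⟨a, ha⟩ := hr.ge (hζW ▸ subset_closure (Set.mem_singleton ζ))
  have hmax : IsMaxPt a := fun z hz => ι.isEmbedding.injective
    (by rw [ha]; exact hζ _ (ha ▸ hz.map ι.continuous))
  have haw : a ⤳ w := (hsp a w).mp (by
    rw [ha]; exact specializes_iff_mem_closure.mpr (hζW ▸ hr.le ⟨w, rfl⟩))
  obtain ⟨e, U, hwU, -, hUm, hUg, hUc, -⟩ := exists_fibreDimAt_data _ w h
  have haU : a ∈ U := haw.mem_open U.2 hwU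
  obtain ⟨U', hU', hUU'⟩ := ι.isEmbedding.isInducing.isOpen_iff.mp U.2
  refine ⟨ζ, e, hζ, hζW.symm, ha ▸ hwx ▸ haw.map ι.continuous, ?_, ?_, ⟨U', hU'⟩, ?_, ?_⟩
  · have := hUm a haU hmax
    rwa [Scheme.Hom.comp_apply, ha] at this
  · have := hUg a haU hmax
    rw [Scheme.Hom.comp_apply, ha] at this
    rw [← ha]; exact (hasChain_comp ι f).mp (by rw [ha]; exact this)
  · rw [← hwx]; exact hUU'.ge hwU
  · intro k c hc hc'
    choose d hd using fun i => hr.ge (hζW ▸ (hc i).1.2)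
    refine hUc (f x) k d (fun i => ⟨hUU'.le ?_, ?_⟩) fun i => ⟨(hsp _ _).mp ?_, ?_⟩
    · show ι (d i) ∈ U'
      rw [hd]; exact (hc i).1.1
    · rw [Scheme.Hom.comp_apply, hd]; exact (hc i).2
    · rw [hd, hd]; exact (hc' i).1
    · exact fun h' => (hc' i).2 (by rw [← hd, ← hd, h'])

end Groth.Agent.EquidimPt
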