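import Groth.Agent.Unibranch.UpperSemicont

/-!
# Equidimensionality at a point in terms of chains of specialisations
-/

set_option autoImplicit false
universe u

open CategoryTheory AlgebraicGeometry Topology TopologicalSpace
open Groth.Agent.Unibranch

namespace Groth.Agent.EquidimPt

variable {X Y : Scheme.{u}}

/-- A point without proper generisations in its fibre. -/
def IsFibMax (f : X ⟶ Y) (m : X) : Prop := ∀ w : X, f w = f m → w ⤳ m → w = m

theorem isFibMax_of_isMaxPt (f : X ⟶ Y) {ζ : X} (h : IsMaxPt ζ) : IsFibMax f ζ :=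
  fun w _ hw => h w hw

theorem isMaxPt_opens_iff (U : X.Opens) (ζ : (U : Scheme.{u})) :
    IsMaxPt ζ ↔ IsMaxPt (U.ι ζ) := by
  constructor
  · intro h z hz
    obtain ⟨z', rfl⟩ : z ∈ Set.range U.ι := by
      rw [U.range_ι]
      exact hz.mem_open U.2 ζ.2
    exact congrArg U.ι (h z' (U.ι.isEmbedding.isInducing.specializes_iff.mp hz))
  · intro h z hz
    exact U.ι.isEmbedding.injective (h _ (hz.map U.ι.continuous))

/-- Both halves of a dimension equality from chains. -/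
theorem krullDim_eq_iff {α : Type u} [TopologicalSpace α] [QuasiSober α] {f : X ⟶ Y} {S : Set X}
    {y : Y} {j : α → X} (hj : IsEmbedding j) (hr : Set.range j = S ∩ f ⁻¹' {y}) {e : ℕ} :
    topologicalKrullDim α = (e : WithBot ℕ∞) ↔ ChainsLE f S y e ∧ HasChain f S y e := by
  rw [← topologicalKrullDim_le_iff f hj hr, ← natCast_le_topologicalKrullDim_iff f hj hr,
    le_antisymm_iff]

/-- The components of the fibres of an open subscheme all have dimension `e` iff the chains in them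
have length at most `e` and each maximal point starts one of length `e`. -/
theorem fibre_components_iff (f : X ⟶ Y) (U : X.Opens) (e : ℕ) :
    (∀ x' : (↥U : Type u),
      ∀ Z ∈ irreducibleComponents (↥((U.ι ≫ f).fiber ((U.ι ≫ f).base x')) : Type u),
        topologicalKrullDim (↥Z : Type u) = e) ↔
    (∀ y, ChainsLE f U y e) ∧
      ∀ m ∈ U, IsFibMax f m → HasChain f ((U : Set X) ∩ closure {m}) (f m) e := by
  set g := U.ι ≫ f
  have hgc : ∀ z, g z = f (U.ι z) := fun z => Scheme.Hom.comp_apply _ _ _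
  let j : ∀ y, ↥(g.fiber y) → X := fun y z => U.ι (g.fiberι y z)
  have hj : ∀ y, IsEmbedding (j y) := fun y => U.ι.isEmbedding.comp (g.fiberι y).isEmbedding
  have hjy : ∀ y z, f (j y z) = y := fun y z => by
    rw [← hgc]; exact (g.range_fiberι y).le ⟨z, rfl⟩
  have hjU : ∀ y z, j y z ∈ U := fun y z => (g.fiberι y z).2
  have hjmax : ∀ y (m : ↥(g.fiber y)), IsMaxPt m ↔ IsFibMax f (j y m) := by
    intro y m
    constructor
    · intro h w hw hwm
      have hwU : w ∈ U := hwm.mem_open U.2 (hjU y m)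
      obtain ⟨w', hw'⟩ : (⟨w, hwU⟩ : U) ∈ Set.range (g.fiberι y) := by
        rw [g.range_fiberι]
        exact (hgc _).trans (hw.trans (hjy y m))
      have e1 : j y w' = w := congrArg U.ι hw'
      rw [← e1] at hwm ⊢
      exact congrArg (j y) (h w' ((hj y).isInducing.specializes_iff.mp hwm))
    · intro h w hwm
      exact (hj y).injective (h _ ((hjy y w).trans (hjy y m).symm) (hwm.map (hj y).continuous))
  have hrange : ∀ y (m : ↥(g.fiber y)), Set.range (fun z : closure ({m} : Set ↥(g.fiber y)) => j y z) =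
      ((U : Set X) ∩ closure {j y m}) ∩ f ⁻¹' {y} := by
    intro y m
    refine Set.Subset.antisymm ?_ ?_
    · rintro _ ⟨⟨z, hz⟩, rfl⟩
      exact ⟨⟨hjU y z, ((specializes_iff_mem_closure.mpr hz).map (hj y).continuous).mem_closure⟩,
        hjy y z⟩
    · rintro w ⟨⟨hwU, hwm⟩, hwy⟩
      obtain ⟨w', hw'⟩ : (⟨w, hwU⟩ : U) ∈ Set.range (g.fiberι y) := by
        rw [g.range_fiberι]
        exact (hgc _).trans hwy
      have e1 : j y w' = w := congrArg U.ι hw'
      refine ⟨⟨w', specializes_iff_mem_closure.mp ((hj y).isInducing.specializes_iff.mp ?_)⟩, e1⟩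
      rw [e1]
      exact specializes_iff_mem_closure.mpr hwm
  have hdim : ∀ y (m : ↥(g.fiber y)), topologicalKrullDim ↥(closure ({m} : Set ↥(g.fiber y))) =
      (e : WithBot ℕ∞) ↔
      ChainsLE f ((U : Set X) ∩ closure {j y m}) y e ∧ HasChain f ((U : Set X) ∩ closure {j y m}) y e := by
    intro y m
    have : QuasiSober ↥(closure ({m} : Set ↥(g.fiber y))) :=
      isClosed_closure.isClosedEmbedding_subtypeVal.quasiSober
    exact krullDim_eq_iff ((hj y).comp IsEmbedding.subtypeVal) (hrange y m)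
  constructor
  · intro h
    refine ⟨fun y k c hc hc' => ?_, fun m hm hmax => ?_⟩
    · refine chain_bound_of_fibre_components f U y ?_ c hc hc'
      rw [← show g ⟨c 0, (hc 0).1⟩ = y from (hgc _).trans (hc 0).2]
      exact h ⟨c 0, (hc 0).1⟩
    · let m' : U := ⟨m, hm⟩
      have hj0 : j (g m') (g.asFiber m') = m := congrArg U.ι (g.fiberι_asFiber m')
      have hmax' : IsMaxPt (g.asFiber m') := (hjmax _ _).mpr (hj0.symm ▸ hmax)
      have := ((hdim _ _).mp (h m' _ hmax'.mem_irreducibleComponents)).2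
      rw [hj0] at this
      rwa [← show g m' = f m from hgc m']
  · rintro ⟨hle, hge⟩ x' Z hZ
    obtain ⟨m, hm, rfl⟩ := exists_isMaxPt hZ
    refine (hdim _ _).mpr ⟨(hle _).mono Set.inter_subset_left, ?_⟩
    have := hge _ (hjU _ m) ((hjmax _ _).mp hm)
    rwa [hjy] at this

/-- Equidimensionality at a point, in chains. -/
theorem isEquidimAt_iff (f : X ⟶ Y) (x : X) :
    EGA43.IsEquidimAt f x ↔ ∃ (e : ℕ) (U : X.Opens), x ∈ U ∧
      (∀ ζ ∈ U, IsMaxPt ζ → IsMaxPt (f ζ) ∧ f ζ ⤳ f x) ∧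
      (∀ y, ChainsLE f U y e) ∧
      ∀ m ∈ U, IsFibMax f m → HasChain f ((U : Set X) ∩ closure {m}) (f m) e := by
  refine exists_congr fun e => exists_congr fun U => and_congr_right fun hxU =>
    and_congr ?_ (fibre_components_iff f U e)
  set g := U.ι ≫ f
  have hgc : ∀ z, g z = f (U.ι z) := fun z => Scheme.Hom.comp_apply _ _ _
  constructor
  · intro h ζ hζU hζ
    let ζ' : U := ⟨ζ, hζU⟩
    have hζ' : IsMaxPt (X := (U : Scheme.{u})) ζ' := (isMaxPt_opens_iff U ζ').mpr hζ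
    obtain ⟨W, hW, hxW, hWcl⟩ := h _ hζ'.mem_irreducibleComponents
    have hcl : closure ({f ζ} : Set Y) = W := by
      rw [← hWcl, ← show g ζ' = f ζ from hgc ζ', ← closure_image_closure_singleton g ζ']
    refine ⟨fun z hz => ?_, specializes_iff_mem_closure.mpr (hcl ▸ hxW)⟩
    have h1 : W ⊆ closure {z} := by
      rw [← hcl]
      exact closure_minimal (Set.singleton_subset_iff.mpr hz.mem_closure) isClosed_closure
    have h2 := hW.2 isIrreducible_singleton.closure h1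
    exact ((specializes_iff_mem_closure.mpr (hcl.symm ▸ h2 (subset_closure rfl))).antisymm hz).eq.symm
  · intro h Z hZ
    obtain ⟨ζ', hζ', rfl⟩ := exists_isMaxPt (X := (U : Scheme.{u})) hZ
    obtain ⟨h1, h2⟩ := h _ ζ'.2 ((isMaxPt_opens_iff U ζ').mp hζ')
    refine ⟨closure {f (U.ι ζ')}, h1.mem_irreducibleComponents,
      specializes_iff_mem_closure.mp h2, ?_⟩
    rw [← hgc, ← closure_image_closure_singleton g ζ']

/-- Near a point of a locally Noetherian scheme all maximal points specialise to it. -/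
theorem exists_opens_maxPt_specializes [IsLocallyNoetherian X] (x : X) :
    ∃ U : X.Opens, x ∈ U ∧ ∀ ζ ∈ U, IsMaxPt ζ → ζ ⤳ x := by
  obtain ⟨U, hxU, hfin⟩ := exists_opens_finite_components x
  let M : Set X := {ζ | IsMaxPt ζ ∧ ζ ∈ U}
  have hM : M.Finite := by
    have hmap : ∀ ζ ∈ M, ∃ ζ' : (U : Scheme.{u}), U.ι ζ' = ζ ∧
        closure ({ζ'} : Set (U : Scheme.{u})) ∈ irreducibleComponents (↥(U : Scheme.{u}) : Type u) :=
      fun ζ hζ => ⟨⟨ζ, hζ.2⟩, rfl, ((isMaxPt_opens_iff U ⟨ζ, hζ.2⟩).mpr hζ.1).mem_irreducibleComponents⟩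
    have hfin' : {p : (U : Scheme.{u}) |
        closure ({p} : Set (U : Scheme.{u})) ∈ irreducibleComponents (↥(U : Scheme.{u}) : Type u)}.Finite :=
      hfin.preimage fun a _ b _ h => eq_of_closure_eq h
    refine (hfin'.image U.ι).subset fun ζ hζ => ?_
    obtain ⟨ζ', e, h⟩ := hmap ζ hζ
    exact ⟨ζ', h, e⟩
  let C : Set X := ⋃ ζ ∈ {ζ ∈ M | ¬ ζ ⤳ x}, closure {ζ}
  have hC : IsClosed C := (hM.subset (Set.sep_subset _ _)).isClosed_biUnion fun _ _ => isClosed_closure
  refine ⟨U ⊓ ⟨Cᶜ, hC.isOpen_compl⟩, ⟨hxU, fun h => ?_⟩, fun ζ hζ hmax => ?_⟩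
  · obtain ⟨ζ, hζ, hxζ⟩ := Set.mem_iUnion₂.mp h
    exact hζ.2 (specializes_iff_mem_closure.mpr hxζ)
  · by_contra hne
    exact hζ.2 (Set.mem_iUnion₂.mpr ⟨ζ, ⟨⟨hmax, hζ.1⟩, hne⟩, subset_closure rfl⟩)

/-- If along every component through `x` the generic fibre has chains of length `e`, and chains near
`x` in the fibre of `x` have length at most `e`, then equidimensionality holds at `x`. -/
theorem isEquidimAt_of_components [IsLocallyNoetherian X] (f : X ⟶ Y) [LocallyOfFiniteType f] (x : X)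
    {e : ℕ} (hmax : ∀ ζ : X, IsMaxPt ζ → ζ ⤳ x → IsMaxPt (f ζ))
    (hgen : ∀ ζ : X, IsMaxPt ζ → ζ ⤳ x → HasChain f (closure {ζ}) (f ζ) e)
    (hfib : ∃ U : X.Opens, x ∈ U ∧ ChainsLE f U (f x) e) : EGA43.IsEquidimAt f x := by
  obtain ⟨U, hxU, hU⟩ := hfib
  obtain ⟨U', hxU', -, hU'⟩ := exists_opens_chainsLE f hxU hU
  obtain ⟨U₀, hxU₀, hU₀⟩ := exists_opens_maxPt_specializes x
  rw [isEquidimAt_iff]
  refine ⟨e, U' ⊓ U₀, ⟨hxU', hxU₀⟩, fun ζ hζ hζm => ⟨hmax ζ hζm (hU₀ ζ hζ.2 hζm),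
    (hU₀ ζ hζ.2 hζm).map f.continuous⟩, fun y => (hU' y).mono fun z hz => hz.1, fun m hm hmm => ?_⟩
  obtain ⟨ζ, hζm, hζ⟩ := exists_isMaxPt_specializes m
  have hζU₀ : ζ ∈ U₀ := hζ.mem_open U₀.2 hm.2
  have hch := hgen ζ hζm (hU₀ ζ hζU₀ hζm)
  obtain ⟨O, hmO, hOU, hO⟩ := exists_opens_maximal f (U := U' ⊓ U₀) hm (f m)
  obtain ⟨c, hc, hc'⟩ := hch.of_specializes hζ hmO
  obtain ⟨m', hm'm, hm'c, hfm', -, -⟩ := hO _ (hc 0).1.1 (hc 0).2
  obtain rfl : m' = m := hmm m' hfm' hm'm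
  exact ⟨c, fun i => ⟨⟨hOU (hc i).1.1,
    specializes_iff_mem_closure.mp (hm'c.trans (specializes_of_chain c hc' i))⟩, (hc i).2⟩, hc'⟩

end Groth.Agent.EquidimPt
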