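import Groth.Agent.EquidimPt.Qf
import Groth.Agent.GLinFree.Dim

/-!
# Fibre dimensions drop by at most one along covering specialisations
-/

set_option autoImplicit false
universe u

open CategoryTheory AlgebraicGeometry Topology TopologicalSpace Limits
open Groth.Agent.Unibranch

namespace Groth.Agent.EquidimPt

/-- In a finite type algebra over a field, the dimension drops by at most one from a prime to a
prime covering it. -/
theorem exists_ltSeries_of_covered {k F : Type u} [Field k] [CommRing F] [Algebra k F]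
    [Algebra.FiniteType k F] (a p : PrimeSpectrum F) (hlt : a < p)
    (hcov : ∀ r, a ≤ r → r ≤ p → r = a ∨ r = p)
    (l : LTSeries (PrimeSpectrum F)) (hl : a ≤ l.head) (n : ℕ) (hn : n + 1 ≤ l.length) :
    ∃ l' : LTSeries (PrimeSpectrum F), p ≤ l'.head ∧ l'.length = n := by
  classical
  let D := F ⧸ a.asIdeal
  let π := Ideal.Quotient.mk a.asIdeal
  haveI : IsJacobsonRing D := isJacobsonRing_of_finiteType (A := k)
  haveI : IsNoetherianRing D := Algebra.FiniteType.isNoetherianRing k D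
  have hker : RingHom.ker π = a.asIdeal := Ideal.mk_ker
  have hle : RingHom.ker π ≤ p.asIdeal := hker.le.trans hlt.le
  set P := p.asIdeal.map π
  haveI hP : P.IsPrime := Ideal.map_isPrime_of_surjective Ideal.Quotient.mk_surjective hle
  have hPcomap : P.comap π = p.asIdeal := by
    rw [Ideal.comap_map_of_surjective' π Ideal.Quotient.mk_surjective, sup_eq_left.mpr hle]
  -- the primes below `P`
  have hbelow : ∀ T : Ideal D, T.IsPrime → T ≤ P → T = ⊥ ∨ T = P := by
    intro T hT hTP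
    haveI := hT
    rcases hcov ⟨T.comap π, Ideal.comap_isPrime π T⟩
      (show a.asIdeal ≤ T.comap π from hker.symm.trans_le (Ideal.ker_le_comap π))
      (show T.comap π ≤ p.asIdeal from hPcomap ▸ Ideal.comap_mono hTP) with e | e
    · left
      rw [← Ideal.map_comap_of_surjective π Ideal.Quotient.mk_surjective T,
        show T.comap π = a.asIdeal from congrArg PrimeSpectrum.asIdeal e, Ideal.map_quotient_self]
    · right
      rw [← Ideal.map_comap_of_surjective π Ideal.Quotient.mk_surjective T,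
        show T.comap π = p.asIdeal from congrArg PrimeSpectrum.asIdeal e]
  obtain ⟨g, hgP, hg0⟩ := Submodule.exists_mem_ne_zero_of_ne_bot
    (show P ≠ ⊥ from fun e => hlt.ne (PrimeSpectrum.ext (by
      rw [← hPcomap, e]; exact hker.symm)))
  set I : Ideal D := Ideal.span {g}
  have hmin : P ∈ I.minimalPrimes := by
    refine ⟨⟨hP, (Ideal.span_singleton_le_iff_mem _).mpr hgP⟩, fun T ⟨hT, hgT⟩ hTP => ?_⟩
    rcases hbelow T hT hTP with rfl | rfl
    · exact absurd ((Submodule.mem_bot D).mp ((Ideal.span_singleton_le_iff_mem _).mp hgT)) hg0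
    · exact le_rfl
  -- a closed point of `V(P)` on no other component
  have hfin : I.minimalPrimes.Finite := Ideal.finite_minimalPrimes_of_isNoetherianRing _ _
  set S : Finset (Ideal D) := hfin.toFinset.erase P
  obtain ⟨h, hh, hhP⟩ : ∃ h, (∀ T ∈ S, h ∈ T) ∧ h ∉ P := by
    by_contra! hcon
    have hle' : S.inf id ≤ P := fun x hx => hcon x fun T hT => Finset.inf_le (f := id) hT hx
    obtain ⟨T, hT, hTP⟩ := (Ideal.IsPrime.inf_le' hP).mp hle'
    obtain ⟨hne, hTmem⟩ := Finset.mem_erase.mp hT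
    exact hne (le_antisymm hTP (hmin.2 (hfin.mem_toFinset.mp hTmem).1 hTP))
  obtain ⟨M, hM, hPM, hhM⟩ : ∃ M : Ideal D, M.IsMaximal ∧ P ≤ M ∧ h ∉ M := by
    by_contra! hcon
    refine hhP ?_
    rw [← IsJacobsonRing.out ‹IsJacobsonRing D› hP.isRadical, Ideal.jacobson, Ideal.mem_sInf]
    exact fun M ⟨hPM, hM⟩ => hcon M hM hPM
  -- `dim D` is the height of `M`, and one hyperplane section cuts out `D ⧸ P` there
  have hdim : ((n + 1 : ℕ) : ℕ∞) ≤ M.height := by
    have h1 : ((n + 1 : ℕ) : WithBot ℕ∞) ≤ ringKrullDim D := by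
      have h3 : ((n + 1 : ℕ) : ℕ∞) ≤ Order.coheight a :=
        (Nat.cast_le.mpr hn).trans (Order.length_le_coheight hl)
      rw [show ringKrullDim D = (Order.coheight a : WithBot ℕ∞) by
        rw [ringKrullDim_quotient, Order.coheight_eq_krullDim_Ici]; rfl]
      exact WithBot.coe_le_coe.mpr h3
    rw [← GLinFree.height_eq_ringKrullDim (K := k) M] at h1
    exact_mod_cast h1
  haveI := hM
  haveI : M.IsPrime := hM.isPrime
  let ρ := Ideal.Quotient.mk I
  have hρ : RingHom.ker ρ ≤ M := by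
    rw [Ideal.mk_ker]
    exact (hmin.1.2).trans hPM
  haveI : (M.map ρ).IsPrime := Ideal.map_isPrime_of_surjective Ideal.Quotient.mk_surjective hρ
  have h2 : ((n : ℕ) : ℕ∞) ≤ (M.map ρ).height := by
    have := hdim.trans (Ideal.height_le_height_add_one_of_mem (r := g) (hPM hgP))
    rw [Nat.cast_add, Nat.cast_one] at this
    exact (ENat.add_le_add_iff_right ENat.one_ne_top).mp this
  rw [show (M.map ρ).height = Order.height (⟨M.map ρ, inferInstance⟩ : PrimeSpectrum (D ⧸ I)) from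
    PrimeSpectrum.height_eq_orderHeight ⟨M.map ρ, inferInstance⟩] at h2
  obtain ⟨l₀, hl₀, hlen⟩ := Order.exists_series_of_le_height _ h2
  let lift : PrimeSpectrum (D ⧸ I) → PrimeSpectrum F := fun q =>
    PrimeSpectrum.comap π (PrimeSpectrum.comap ρ q)
  have hlift : StrictMono lift := by
    intro q q' hq
    refine lt_of_le_of_ne (Ideal.comap_mono (Ideal.comap_mono hq.le)) fun e => hq.ne ?_
    exact PrimeSpectrum.comap_injective_of_surjective ρ Ideal.Quotient.mk_surjective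
      (PrimeSpectrum.comap_injective_of_surjective π Ideal.Quotient.mk_surjective e)
  refine ⟨l₀.map lift hlift, ?_, hlen⟩
  show p.asIdeal ≤ (l₀.head.asIdeal.comap ρ).comap π
  rw [← hPcomap]
  refine Ideal.comap_mono ?_
  have hqM : l₀.head.asIdeal.comap ρ ≤ M := by
    have h3 : l₀.head ≤ l₀.last := l₀.head_le_last
    rw [hl₀] at h3
    refine (Ideal.comap_mono h3).trans ?_
    rw [Ideal.comap_map_of_surjective' ρ Ideal.Quotient.mk_surjective, sup_eq_left.mpr hρ]
  obtain ⟨T, hT, hTq⟩ := Ideal.exists_minimalPrimes_le (I := I) (J := l₀.head.asIdeal.comap ρ)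
    (fun x hx => by rw [Ideal.mem_comap, Ideal.Quotient.eq_zero_iff_mem.mpr hx]; exact zero_mem _)
  rcases eq_or_ne T P with rfl | hne
  · exact hTq
  · exact absurd (hqM (hTq (hh T (Finset.mem_erase.mpr ⟨hne, hfin.mem_toFinset.mpr hT⟩)))) hhM

variable {X Y : Scheme.{u}}

/-- Along a covering specialisation within a fibre, chains lose at most one step. -/
theorem hasChain_of_covered (f : X ⟶ Y) [LocallyOfFiniteType f] {w ξ : X} (hsp : w ⤳ ξ) (hne : w ≠ ξ)
    (hcov : ∀ z, w ⤳ z → z ⤳ ξ → z = w ∨ z = ξ) (hf : f w = f ξ) {n : ℕ}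
    (hw : HasChain f (closure {w}) (f w) (n + 1)) : HasChain f (closure {ξ}) (f ξ) n := by
  obtain ⟨V, W, hV, hW, hξW, hWV, -⟩ := exists_chart_le f (U := ⊤) (x := ξ) trivial
  let := (f.appLE V W hWV).hom.toAlgebra
  have : Algebra.FiniteType Γ(Y, V) Γ(X, W) := f.finiteType_appLE hV hW hWV
  obtain ⟨c, hc, hc'⟩ := hw.of_specializes hsp hξW
  let pt : PrimeSpectrum Γ(X, W) → X := fun q => hW.fromSpec q
  have hpt : IsOpenEmbedding pt := hW.fromSpec.isOpenEmbedding
  have hpt_le : ∀ q q', q ≤ q' ↔ pt q ⤳ pt q' := fun q q' =>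
    (PrimeSpectrum.le_iff_specializes q q').trans hpt.isInducing.specializes_iff.symm
  have hkey : ∀ q, hV.fromSpec (PrimeSpectrum.comap (algebraMap Γ(Y, V) Γ(X, W)) q) = f (pt q) :=
    fun q => fromSpec_comap_appLE f hV hW hWV q
  let pw := hW.primeIdealOf ⟨w, hsp.mem_open W.2 hξW⟩
  let pξ := hW.primeIdealOf ⟨ξ, hξW⟩
  have hw' : pt pw = w := hW.fromSpec_primeIdealOf ⟨w, hsp.mem_open W.2 hξW⟩
  have hξ' : pt pξ = ξ := hW.fromSpec_primeIdealOf ⟨ξ, hξW⟩
  let pc : Fin (n + 1 + 1) → PrimeSpectrum Γ(X, W) := fun i => hW.primeIdealOf ⟨c i, (hc i).1.1⟩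
  have hc'' : ∀ i, pt (pc i) = c i := fun i => hW.fromSpec_primeIdealOf ⟨c i, (hc i).1.1⟩
  let P := PrimeSpectrum.comap (algebraMap Γ(Y, V) Γ(X, W)) pw
  have hP : ∀ q, f (pt q) = f ξ → PrimeSpectrum.comap (algebraMap Γ(Y, V) Γ(X, W)) q = P :=
    fun q hq => hV.fromSpec.isOpenEmbedding.injective
      (((hkey q).trans hq).trans ((congrArg f hw').trans hf).symm |>.trans (hkey pw).symm)
  let o := PrimeSpectrum.preimageOrderIsoFiber Γ(Y, V) Γ(X, W) P
  let a := o ⟨pw, rfl⟩
  let p := o ⟨pξ, hP _ (congrArg f hξ')⟩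
  have hlt : a < p := o.strictMono (show pw < pξ from lt_of_le_of_ne
    ((hpt_le _ _).mpr (by rw [hw', hξ']; exact hsp))
    fun e => hne (by rw [← hw', ← hξ', e]))
  have hcov' : ∀ r, a ≤ r → r ≤ p → r = a ∨ r = p := by
    intro r h1 h2
    obtain ⟨⟨q, hq⟩, rfl⟩ := o.surjective r
    rw [o.le_iff_le] at h1 h2
    rcases hcov (pt q) (hw' ▸ (hpt_le _ _).mp h1) (hξ' ▸ (hpt_le _ _).mp h2) with e | e
    · exact Or.inl (congrArg o (Subtype.ext (hpt.injective (e.trans hw'.symm))))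
    · exact Or.inr (congrArg o (Subtype.ext (hpt.injective (e.trans hξ'.symm))))
  let lc : LTSeries (PrimeSpectrum (P.asIdeal.Fiber Γ(X, W))) :=
    ⟨n + 1, fun i => o ⟨pc i, hP _ ((congrArg f (hc'' i)).trans (hc i).2)⟩, fun i => o.strictMono
      (show pc i.castSucc < pc i.succ from lt_of_le_of_ne
        ((hpt_le _ _).mpr (by rw [hc'', hc'']; exact (hc' i).1))
        fun e => (hc' i).2 (by rw [← hc'', ← hc'', e]))⟩
  obtain ⟨l', hl', hlen⟩ := exists_ltSeries_of_covered (k := P.asIdeal.ResidueField) a p hlt hcov' lc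
    (o.monotone (show pw ≤ pc 0 from (hpt_le _ _).mpr (by
      rw [hw', hc'']; exact specializes_iff_mem_closure.mpr (hc 0).1.2))) n le_rfl
  subst hlen
  refine ⟨fun i => pt (o.symm (l' i)).1, fun i => ⟨?_, ?_⟩, fun i => ⟨?_, ?_⟩⟩
  · refine specializes_iff_mem_closure.mp (hξ' ▸ (hpt_le _ _).mp ?_)
    exact (show (⟨pξ, hP _ (congrArg f hξ')⟩ : PrimeSpectrum.comap
      (algebraMap Γ(Y, V) Γ(X, W)) ⁻¹' {P}) ≤ o.symm (l' i) from
        (o.le_symm_apply).mpr (hl'.trans (LTSeries.monotone l' (Fin.zero_le i))))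
  · rw [← hkey, show PrimeSpectrum.comap (algebraMap Γ(Y, V) Γ(X, W)) (o.symm (l' i)).1 = P from
      (o.symm (l' i)).2, hkey, hw', hf]
  · exact (hpt_le _ _).mp (o.symm.monotone (l'.step i).le)
  · exact fun e => (l'.step i).ne (o.symm.injective (Subtype.ext (hpt.injective e)))

/-- A long chain along `closure {ζ}` gives one below a point between `ζ` and any specialisation. -/
theorem exists_between (f : X ⟶ Y) [LocallyOfFiniteType f] {ζ ξ : X} (hsp : ζ ⤳ ξ) {e : ℕ}
    (h : HasChain f (closure {ζ}) (f ζ) e) :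
    ∃ m, ζ ⤳ m ∧ m ⤳ ξ ∧ f m = f ξ ∧ HasChain f (closure {m}) (f ξ) e := by
  let Z : Closeds X := ⟨closure {ζ}, isClosed_closure⟩
  let ι := (Scheme.IdealSheafData.vanishingIdeal Z).subschemeι
  have hr : Set.range ι = closure {ζ} := by
    rw [Scheme.IdealSheafData.range_subschemeι, Scheme.IdealSheafData.coe_support_vanishingIdeal]
    rfl
  obtain ⟨ξ', hξ'⟩ : ξ ∈ Set.range ι := hr.ge (specializes_iff_mem_closure.mp hsp)
  obtain ⟨O, hxO, -, hO⟩ := exists_opens_maximal (ι ≫ f) (U := ⊤) (x := ξ') trivial (f ξ)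
  obtain ⟨O', hO', e'⟩ := ι.isEmbedding.isInducing.isOpen_iff.mp O.2
  obtain ⟨c, hc, hc'⟩ := h.of_specializes hsp (U := ⟨O', hO'⟩) (by
    have : ξ' ∈ ι ⁻¹' O' := e' ▸ hxO
    rwa [Set.mem_preimage, hξ'] at this)
  obtain ⟨d, hd⟩ := hr.ge (hc 0).1.2
  have hdO : d ∈ O := by
    have : d ∈ ι ⁻¹' O' := by rw [Set.mem_preimage, hd]; exact (hc 0).1.1
    rwa [e'] at this
  obtain ⟨m, hmξ, hmd, hfm, -, -⟩ := hO d hdO (by rw [Scheme.Hom.comp_apply, hd]; exact (hc 0).2)
  refine ⟨ι m, specializes_iff_mem_closure.mpr (hr.le ⟨m, rfl⟩), hξ' ▸ hmξ.map ι.continuous,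
    (Scheme.Hom.comp_apply _ _ _).symm.trans hfm, c, fun i => ⟨?_, (hc i).2⟩, hc'⟩
  exact specializes_iff_mem_closure.mp
    ((hd ▸ hmd.map ι.continuous).trans (specializes_of_chain c hc' i))

/-- Covering specialisations: fibre dimensions drop by at most one, and not at all if the image
changes. -/
theorem hasChain_step (f : X ⟶ Y) [LocallyOfFiniteType f] {w ξ : X} (hsp : w ⤳ ξ) (hne : w ≠ ξ)
    (hcov : ∀ z, w ⤳ z → z ⤳ ξ → z = w ∨ z = ξ) {n : ℕ}
    (hw : HasChain f (closure {w}) (f w) (n + 1)) :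
    HasChain f (closure {ξ}) (f ξ) n ∧ (f w ≠ f ξ → HasChain f (closure {ξ}) (f ξ) (n + 1)) := by
  have hchange : f w ≠ f ξ → HasChain f (closure {ξ}) (f ξ) (n + 1) := fun hf => by
    obtain ⟨m, hwm, hmξ, hfm, hm⟩ := exists_between f hsp hw
    rcases hcov m hwm hmξ with rfl | rfl
    · exact absurd hfm hf
    · exact hm
  refine ⟨?_, hchange⟩
  by_cases hf : f w = f ξ
  · exact hasChain_of_covered f hsp hne hcov hf hw
  · exact (hchange hf).anti n.le_succ

end Groth.Agent.EquidimPt
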