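import Groth.Agent.Unibranch.LiftDim
import Groth.Agent.Unibranch.Lifting

/-!
# Fibre dimensions do not drop along generisations under flat morphisms
-/

set_option autoImplicit false
universe u

open CategoryTheory AlgebraicGeometry Topology TopologicalSpace TensorProduct
open Groth.Agent.Unibranch

namespace Groth.Agent.EquidimPt

variable {X Y : Scheme.{u}}

/-- A flat morphism lifts generisations keeping the dimension of the fibre. -/
theorem exists_hasChain_of_flat (f : X ⟶ Y) [LocallyOfFiniteType f] [Flat f] {z : X}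
    {η : Y} (hη : η ⤳ f z) :
    ∃ ζ, ζ ⤳ z ∧ f ζ = η ∧
      ∀ k, HasChain f (closure {z}) (f z) k → HasChain f (closure {ζ}) η k := by
  obtain ⟨V, W, hV, hW, hzW, hWV, -⟩ := exists_chart_le f (U := ⊤) (x := z) trivial
  let := (f.appLE V W hWV).hom.toAlgebra
  have : Algebra.FiniteType Γ(Y, V) Γ(X, W) := f.finiteType_appLE hV hW hWV
  have : Module.Flat Γ(Y, V) Γ(X, W) := f.flat_appLE hV hW hWV
  let n := hW.primeIdealOf ⟨z, hzW⟩
  have hηV : η ∈ V := hη.mem_open V.2 (hWV hzW)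
  have hn : n.asIdeal.under Γ(Y, V) = (hV.primeIdealOf ⟨f z, hWV hzW⟩).asIdeal :=
    congrArg PrimeSpectrum.asIdeal (IsAffineOpen.comap_primeIdealOf_appLE V hV W hW hWV hzW)
  obtain ⟨t, -, ht⟩ := exists_genAt (A := Γ(Y, V)) n.asIdeal
  obtain ⟨q, hqn, hqp, hgen⟩ := exists_genAt_of_liftsUniversally n (fun D _ _ P _ v hv ↦ by
      obtain ⟨Q, hQ, hQ', hQv⟩ := Ideal.exists_ideal_le_liesOver_of_le (S := D ⊗[Γ(Y, V)] Γ(X, W))
        (p := v.asIdeal) (q := P.asIdeal.under D) P.asIdeal hv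
      exact ⟨⟨Q, hQ'⟩, hQ, PrimeSpectrum.ext hQv.over.symm⟩) t ht
    (hV.primeIdealOf ⟨η, hηV⟩).asIdeal (by
      rw [hn]
      exact (primeIdealOf_le_iff hV _ _).mpr hη)
  exact hasChain_closure_of_genAt f hV hW hWV hzW hηV q hqn hqp t
    (by rw [Nat.card_eq_fintype_card, Fintype.card_ulift, Fintype.card_fin]; rfl) hgen

end Groth.Agent.EquidimPt
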