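import Groth.Agent.EquidimPt.Affine

/-!
# Equidimensionality and locally quasi-finite maps to affine space
-/

set_option autoImplicit false
universe u

open CategoryTheory AlgebraicGeometry Topology TopologicalSpace Limits
open Groth.Agent.Unibranch

namespace Groth.Agent.EquidimPt

variable {X Y : Scheme.{u}}

/-- An equidimensional morphism is locally quasi-finite over an affine space, maximal points going to
maximal points. -/
theorem exists_quasiFinite_of_isEquidimAt (f : X ⟶ Y) [LocallyOfFiniteType f] (x : X)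
    (h : EGA43.IsEquidimAt f x) :
    ∃ (e : ℕ) (U : X.Opens) (g : (U : Scheme.{u}) ⟶ AffineSpace (ULift.{u} (Fin e)) Y),
      x ∈ U ∧ g ≫ (AffineSpace (ULift.{u} (Fin e)) Y ↘ Y) = U.ι ≫ f ∧ LocallyQuasiFinite g ∧
      ∀ ζ : (U : Scheme.{u}), IsMaxPt ζ → IsMaxPt (g ζ) := by
  obtain ⟨e, U₀, hxU₀, hmax, hle, hge⟩ := (isEquidimAt_iff f x).mp h
  obtain ⟨V, W, hV, hW, hxW, hWV, hWU⟩ := exists_chart_le f hxU₀
  let σ := ULift.{u} (Fin e)
  let π := AffineSpace σ Y ↘ Y
  let := (f.appLE V W hWV).hom.toAlgebra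
  have : Algebra.FiniteType Γ(Y, V) Γ(X, W) := f.finiteType_appLE hV hW hWV
  obtain ⟨t, ht⟩ := exists_quasiFiniteAt_aeval (A := Γ(Y, V)) (hW.primeIdealOf ⟨x, hxW⟩) (e := e)
    fun l hl => hle (f x) l.length (fun i => hW.fromSpec (l i))
      (fun i => ⟨hWU (hW.range_fromSpec.le ⟨l i, rfl⟩), by
        rw [← fromSpec_comap_appLE f hV hW hWV, ← RingHom.algebraMap_toAlgebra (f.appLE V W hWV).hom,
          hl i, RingHom.algebraMap_toAlgebra, fromSpec_comap_appLE f hV hW hWV, hW.fromSpec_primeIdealOf]⟩)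
      fun i => ⟨((PrimeSpectrum.le_iff_specializes _ _).mp (l.step i).le).map hW.fromSpec.continuous,
        fun h' => (show l i.castSucc < l i.succ from l.step i).ne
          (hW.fromSpec.isOpenEmbedding.injective h')⟩
  let ψ : MvPolynomial σ Γ(Y, V) →+* Γ(X, W) := (MvPolynomial.aeval (R := Γ(Y, V)) t).toRingHom
  let g₁ : (W : Scheme.{u}) ⟶ AffineSpace σ Y :=
    (hW.isoSpec.hom ≫ Spec.map (CommRingCat.ofHom ψ)) ≫ chart σ hV
  have hg₁ : g₁ ≫ π = W.ι ≫ f := by
    have h1 : Spec.map (CommRingCat.ofHom ψ) ≫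
        Spec.map (CommRingCat.ofHom (algebraMap Γ(Y, V) (MvPolynomial σ Γ(Y, V)))) =
        Spec.map (f.appLE V W hWV) := by
      rw [← Spec.map_comp]
      congr 1
      ext a
      exact (MvPolynomial.aeval (R := Γ(Y, V)) t).commutes a
    rw [Category.assoc, chart_over σ hV, Category.assoc, reassoc_of% h1,
      IsAffineOpen.SpecMap_appLE_fromSpec f hV hW hWV, ← IsAffineOpen.isoSpec_inv_ι, Category.assoc,
      Iso.hom_inv_id_assoc]
  haveI : LocallyOfFiniteType (g₁ ≫ π) := by rw [hg₁]; infer_instance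
  haveI : LocallyOfFiniteType g₁ := locallyOfFiniteType_of_comp g₁ π
  let U₁ : X.Opens := W.ι ''ᵁ g₁.quasiFiniteLocus
  have hU₁W : U₁ ≤ W := by
    rintro _ ⟨z, -, rfl⟩
    exact z.2
  have hxU₁ : x ∈ U₁ := by
    refine ⟨⟨x, hxW⟩, ?_, rfl⟩
    show g₁.QuasiFiniteAt ⟨x, hxW⟩
    rw [show g₁ = hW.isoSpec.hom ≫ (Spec.map (CommRingCat.ofHom ψ) ≫ chart σ hV) from
      Category.assoc _ _ _, Scheme.Hom.quasiFiniteAt_comp_iff_of_isOpenImmersion,
      Scheme.Hom.quasiFiniteAt_comp_iff]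
    exact quasiFiniteAt_SpecMap (CommRingCat.ofHom ψ) _ ht
  let g : (U₁ : Scheme.{u}) ⟶ AffineSpace σ Y := X.homOfLE hU₁W ≫ g₁
  have hg : g ≫ π = U₁.ι ≫ f := by
    rw [Category.assoc, hg₁, Scheme.homOfLE_ι_assoc]
  haveI : LocallyQuasiFinite g := by
    rw [← Scheme.Hom.quasiFiniteLocus_eq_top_iff, Scheme.Hom.quasiFiniteLocus_comp, eq_top_iff]
    rintro ⟨_, z, hz, rfl⟩ -
    show X.homOfLE hU₁W _ ∈ g₁.quasiFiniteLocus
    rw [Scheme.homOfLE_apply']
    exact hz
  refine ⟨e, U₁, g, hxU₁, hg, ‹_›, fun ζ' hζ' a ha => ?_⟩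
  set ζ : X := U₁.ι ζ'
  have hζU : ζ ∈ U₁ := ζ'.2
  have hζ : IsMaxPt ζ := (isMaxPt_opens_iff U₁ ζ').mp hζ'
  have hη := (hmax ζ (hWU (hU₁W hζU)) hζ).1
  obtain ⟨c, hc, hc'⟩ := ((hge ζ (hWU (hU₁W hζU)) (isFibMax_of_isMaxPt f hζ)).mono
    Set.inter_subset_right).of_specializes specializes_rfl hζU
  obtain ⟨h1, h2⟩ := hasChain_image π f U₁ g hg c (fun i => (hc i).1.1) (fun i => (hc i).2) hc'
  have hgζ : π (g ζ') = f ζ := by
    rw [← Scheme.Hom.comp_apply, hg]; rfl
  have hsp : g ζ' ⤳ g ⟨c 0, (hc 0).1.1⟩ :=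
    (U₁.ι.isEmbedding.isInducing.specializes_iff.mp
      (specializes_iff_mem_closure.mpr (hc 0).1.2)).map g.continuous
  have hπa : π a = f ζ := hη _ (hgζ ▸ ha.map π.continuous)
  by_contra hne
  have hne0 : a ≠ g ⟨c 0, (hc 0).1.1⟩ := fun e0 => hne (((e0 ▸ hsp : g ζ' ⤳ a).antisymm ha).eq.symm)
  have := chainsLE_affineSpace e (f ζ) (e + 1) (Fin.cons a fun i => g ⟨c i, (hc i).1.1⟩)
    (fun i => ⟨trivial, Fin.cases (by simpa using hπa) (fun j => by simpa using h1 j) i⟩)
    (fun i => by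
      refine Fin.cases ?_ (fun j => ?_) i
      · simp only [Fin.castSucc_zero, Fin.cons_zero, Fin.cons_succ]
        exact ⟨ha.trans hsp, hne0⟩
      · simp only [Fin.castSucc_succ, Fin.cons_succ]
        exact h2 j)
  omega

/-- A maximal point mapped to a maximal point of affine space of rank `e` has fibre chains of
length `e` in its closure. -/
theorem hasChain_of_isMaxPt (f : X ⟶ Y) [LocallyOfFiniteType f] {e : ℕ} (U : X.Opens)
    (g : (U : Scheme.{u}) ⟶ AffineSpace (ULift.{u} (Fin e)) Y)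
    (hg : g ≫ (AffineSpace (ULift.{u} (Fin e)) Y ↘ Y) = U.ι ≫ f)
    (ζ' : (U : Scheme.{u})) (hgζ : IsMaxPt (g ζ')) :
    HasChain f (closure {U.ι ζ'}) (f (U.ι ζ')) e := by
  let σ := ULift.{u} (Fin e)
  set ζ : X := U.ι ζ'
  obtain ⟨V, W, hV, hW, hζW, hWV, hWU⟩ := exists_chart_le f (x := ζ) (U := U) ζ'.2
  let := (f.appLE V W hWV).hom.toAlgebra
  have : Algebra.FiniteType Γ(Y, V) Γ(X, W) := f.finiteType_appLE hV hW hWV
  let w : Spec Γ(X, W) ⟶ (U : Scheme.{u}) := hW.isoSpec.inv ≫ X.homOfLE hWU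
  have hw : w ≫ U.ι = hW.fromSpec := by
    rw [Category.assoc, Scheme.homOfLE_ι, hW.isoSpec_inv_ι]
  have hwpt : ∀ q, U.ι (w q) = hW.fromSpec q := fun q =>
    (Scheme.Hom.comp_apply _ _ _).symm.trans congr($hw q)
  let G := IsOpenImmersion.lift (chart σ hV) (w ≫ g) (by
    rintro _ ⟨q, rfl⟩
    rw [range_chart]
    show _ ∈ (V : Set Y)
    rw [← Scheme.Hom.comp_apply, Category.assoc, hg, reassoc_of% hw, Scheme.Hom.comp_apply,
      ← fromSpec_comap_appLE f hV hW hWV]
    exact hV.range_fromSpec.le ⟨_, rfl⟩)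
  have hG : G ≫ chart σ hV = w ≫ g := IsOpenImmersion.lift_fac _ _ _
  obtain ⟨ψ, hψ⟩ := Spec.map_surjective G
  have hψA : ψ.hom.comp (algebraMap Γ(Y, V) (MvPolynomial σ Γ(Y, V))) = (f.appLE V W hWV).hom := by
    have h1 : Spec.map ψ ≫ Spec.map (CommRingCat.ofHom (algebraMap Γ(Y, V) (MvPolynomial σ Γ(Y, V)))) =
        Spec.map (f.appLE V W hWV) := by
      rw [← cancel_mono hV.fromSpec, Category.assoc, ← chart_over σ hV, hψ, reassoc_of% hG,
        hg, reassoc_of% hw, IsAffineOpen.SpecMap_appLE_fromSpec]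
    rw [← Spec.map_comp] at h1
    exact congrArg CommRingCat.Hom.hom (Spec.map_injective h1)
  let t : σ → Γ(X, W) := fun i => ψ.hom (MvPolynomial.X i)
  have haev : (MvPolynomial.aeval (R := Γ(Y, V)) t).toRingHom = ψ.hom :=
    MvPolynomial.ringHom_ext (fun a => by
      refine ((MvPolynomial.aeval (R := Γ(Y, V)) t).commutes a).trans ?_
      exact (RingHom.congr_fun hψA a).symm) (fun i => MvPolynomial.aeval_X t i)
  let q := hW.primeIdealOf ⟨ζ, hζW⟩
  have hwq : w q = ζ' := U.ι.isOpenEmbedding.injective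
    ((hwpt q).trans (hW.fromSpec_primeIdealOf ⟨ζ, hζW⟩))
  have hGq : chart σ hV (G q) = g ζ' := by
    rw [← Scheme.Hom.comp_apply, hG, Scheme.Hom.comp_apply, hwq]
  let P : PrimeSpectrum (MvPolynomial σ Γ(Y, V)) := PrimeSpectrum.comap ψ.hom q
  have hPG : chart σ hV P = g ζ' := by rw [← hGq, ← hψ]; rfl
  have hgen : GenAt (A := Γ(Y, V)) t q.asIdeal := by
    rw [genAt_iff_comap, haev]
    set p := q.asIdeal.under Γ(Y, V)
    have hp : p.map (MvPolynomial.C : Γ(Y, V) →+* MvPolynomial σ Γ(Y, V)) =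
        RingHom.ker (MvPolynomial.map (σ := σ) (Ideal.Quotient.mk p)) := by
      rw [MvPolynomial.ker_map, Ideal.mk_ker]
    haveI : (p.map (MvPolynomial.C : Γ(Y, V) →+* MvPolynomial σ Γ(Y, V))).IsPrime := by
      rw [hp]; exact RingHom.ker_isPrime _
    have hle : p.map (MvPolynomial.C : Γ(Y, V) →+* MvPolynomial σ Γ(Y, V)) ≤ P.asIdeal := by
      rw [Ideal.map_le_iff_le_comap]
      intro a ha
      show ψ.hom (MvPolynomial.C a) ∈ q.asIdeal
      have := RingHom.congr_fun hψA a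
      rw [RingHom.comp_apply, MvPolynomial.algebraMap_eq] at this
      rw [this]
      exact ha
    let P₀ : PrimeSpectrum (MvPolynomial σ Γ(Y, V)) := ⟨_, ‹_›⟩
    have h1 := hgζ (chart σ hV P₀) (hPG ▸
      ((PrimeSpectrum.le_iff_specializes P₀ P).mp hle).map (chart σ hV).continuous)
    exact congrArg PrimeSpectrum.asIdeal
      ((chart σ hV).isOpenEmbedding.injective (hPG.trans h1.symm))
  have hcard : e ≤ rdimIn f hW hWV ζ hζW := by
    have := hgen.card_le
    rwa [Nat.card_eq_fintype_card, Fintype.card_ulift, Fintype.card_fin] at this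
  exact ((hasChain_rdimIn hV hW hWV hζW).anti hcard).mono Set.inter_subset_right

/-- Conversely, over a locally Noetherian source. -/
theorem isEquidimAt_of_quasiFinite [IsLocallyNoetherian X] (f : X ⟶ Y) [LocallyOfFiniteType f] (x : X)
    {e : ℕ} (U : X.Opens) (g : (U : Scheme.{u}) ⟶ AffineSpace (ULift.{u} (Fin e)) Y)
    [LocallyQuasiFinite g] (hxU : x ∈ U)
    (hg : g ≫ (AffineSpace (ULift.{u} (Fin e)) Y ↘ Y) = U.ι ≫ f)
    (hmax : ∀ ζ : (U : Scheme.{u}), IsMaxPt ζ → IsMaxPt (g ζ)) : EGA43.IsEquidimAt f x := by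
  refine isEquidimAt_of_components f x (e := e) (fun ζ hζ hζx => ?_) (fun ζ hζ hζx => ?_)
    ⟨U, hxU, chainsLE_of_quasiFinite f U g hg _⟩
  · have h1 := isMaxPt_over _ (hmax ⟨ζ, hζx.mem_open U.2 hxU⟩
      ((isMaxPt_opens_iff U ⟨ζ, hζx.mem_open U.2 hxU⟩).mpr hζ))
    rwa [← Scheme.Hom.comp_apply, hg] at h1
  · exact hasChain_of_isMaxPt f U g hg ⟨ζ, hζx.mem_open U.2 hxU⟩
      (hmax _ ((isMaxPt_opens_iff U ⟨ζ, hζx.mem_open U.2 hxU⟩).mpr hζ))

/-- The condition on components is the condition on maximal points. -/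
theorem components_iff_maxPt {A : Scheme.{u}} (g : X ⟶ A) :
    (∀ Z ∈ irreducibleComponents (X : Type u),
        closure (g.base '' Z) ∈ irreducibleComponents (A : Type u)) ↔
      ∀ ζ : X, IsMaxPt ζ → IsMaxPt (g ζ) := by
  constructor
  · intro h ζ hζ
    have h1 := h _ hζ.mem_irreducibleComponents
    rw [show (g.base '' closure {ζ}) = g '' closure {ζ} from rfl,
      closure_image_closure_singleton] at h1
    obtain ⟨a, ha, hcl⟩ := exists_isMaxPt h1
    rwa [eq_of_closure_eq hcl.symm]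
  · intro h Z hZ
    obtain ⟨ζ, hζ, rfl⟩ := exists_isMaxPt hZ
    rw [show (g.base '' closure {ζ}) = g '' closure {ζ} from rfl, closure_image_closure_singleton]
    exact (h ζ hζ).mem_irreducibleComponents

/-- Generisations lift in a base change at points over a maximal point of the base. -/
theorem exists_specializes_of_isPullback {P A B Z : Scheme.{u}} {fst : P ⟶ A} {snd : P ⟶ B}
    {g : A ⟶ Z} {φ : B ⟶ Z} (h : IsPullback fst snd g φ) (p : P) {b : B}
    (hb : b ⤳ snd p) (hφ : φ b = g (fst p)) : ∃ w : P, w ⤳ p ∧ snd w = b := by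
  set z := g (fst p)
  let κ := Z.fromSpecResidueField z
  let Q := pullback φ κ
  let pB : Q ⟶ B := pullback.fst φ κ
  haveI : IsPreimmersion pB := MorphismProperty.pullback_fst φ κ inferInstance
  have hrange : Set.range pB = φ ⁻¹' {z} := by
    rw [show pB = pullback.fst φ κ from rfl, Scheme.Pullback.range_fst, Scheme.range_fromSpecResidueField]
  have hsq : φ (snd p) = z := by
    rw [← Scheme.Hom.comp_apply, ← h.w, Scheme.Hom.comp_apply]
  obtain ⟨q, hq⟩ : ∃ q, pB q = snd p := by rw [← Set.mem_range, hrange]; exact hsq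
  obtain ⟨q', hq'⟩ : ∃ q', pB q' = b := by rw [← Set.mem_range, hrange]; exact hφ
  have hqq : q' ⤳ q := pB.isEmbedding.isInducing.specializes_iff.mp (by rw [hq, hq']; exact hb)
  let gz := g.fiberToSpecResidueField z
  haveI : Subsingleton ↥(Spec (Z.residueField z)) :=
    inferInstanceAs (Subsingleton (PrimeSpectrum (Z.residueField z)))
  haveI : Flat gz := inferInstance
  let r : Q ⟶ Spec (Z.residueField z) := pullback.snd φ κ
  let T := pullback gz r
  haveI : Flat (pullback.snd gz r) := MorphismProperty.pullback_snd gz r inferInstance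
  let η : T ⟶ P := h.lift (pullback.fst gz r ≫ g.fiberι z) (pullback.snd gz r ≫ pB) (by
    rw [Category.assoc, Category.assoc, g.fiber_fac,
      pullback.condition, pullback.condition_assoc])
  have hη1 : η ≫ fst = pullback.fst gz r ≫ g.fiberι z := h.lift_fst _ _ _
  have hη2 : η ≫ snd = pullback.snd gz r ≫ pB := h.lift_snd _ _ _
  -- the square exhibiting `T` as the preimage of `Q`
  have hbig : IsPullback (pullback.fst gz r ≫ g.fiberι z) (pullback.snd gz r) g (r ≫ κ) :=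
    (IsPullback.of_hasPullback gz r).paste_horiz (IsPullback.of_hasPullback g κ)
  rw [← pullback.condition] at hbig
  have hT : IsPullback η (pullback.snd gz r) snd pB :=
    IsPullback.of_right (h₁₁ := η) (h₁₂ := fst) (v₁₂ := snd) (h₂₂ := φ) (hη1 ▸ hbig) hη2 h
  obtain ⟨t, ht1, ht2⟩ := Scheme.exists_preimage_of_isPullback hT p q hq.symm
  obtain ⟨t', htt', ht'⟩ := Flat.generalizingMap (pullback.snd gz r) (show q' ⤳ pullback.snd gz r t from
    ht2.symm ▸ hqq)
  refine ⟨η t', ?_, ?_⟩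
  · rw [← ht1]; exact htt'.map η.continuous
  · rw [← Scheme.Hom.comp_apply, hη2, Scheme.Hom.comp_apply, ht']
    exact hq'

end Groth.Agent.EquidimPt
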