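import Groth.Agent.EquidimPt.Height
import Groth.Agent.S5925

/-!
# Quasi-sections through a point closed in its fibre
-/

set_option autoImplicit false
universe u

open CategoryTheory AlgebraicGeometry Topology TopologicalSpace Limits
open Groth.Agent.Unibranch

namespace Groth.Agent.EquidimPt

variable {X Y : Scheme.{u}}

/-- In an affine scheme, cutting reduces an equidimensional morphism to relative dimension zero. -/
theorem exists_zero_dim [IsLocallyNoetherian Y] [IrreducibleSpace Y] (e : ℕ) :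
    ∀ {X : Scheme.{u}} (f : X ⟶ Y) [LocallyOfFiniteType f] [IsAffine X] (x : X)
      {V : Y.Opens}, IsAffineOpen V → (∀ z, f z ∈ V) →
      EGA43.IsEquidimAt f x → FlatMor.fibreDimAt f x ≤ (e : WithBot ℕ∞) →
      (∀ z, x ⤳ z → f z = f x → z = x) →
      ∃ ξ : X, ξ ⤳ x ∧ IsMaxPt (f ξ) ∧
        ∃ O : X.Opens, x ∈ O ∧ ∀ y, ChainsLE f ((O : Set X) ∩ closure {ξ}) y 0 := by
  induction e with
  | zero =>
    intro X f _ _ x V _ _ hf he _
    haveI : IsLocallyNoetherian X := LocallyOfFiniteType.isLocallyNoetherian f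
    obtain ⟨e, U, hxU, he', hmax, -, hle, -⟩ := exists_fibreDimAt_data f x hf
    rw [he'] at he
    obtain rfl : e = 0 := by
      have : e ≤ 0 := by exact_mod_cast he
      omega
    obtain ⟨ζ, hζ, hζx⟩ := exists_isMaxPt_specializes x
    exact ⟨ζ, hζx, hmax ζ (hζx.mem_open U.2 hxU) hζ, U, hxU, fun y => (hle y).mono Set.inter_subset_left⟩
  | succ n ih =>
    intro X f _ _ x V hV hfV hf he hcl
    haveI : IsLocallyNoetherian X := LocallyOfFiniteType.isLocallyNoetherian f
    obtain ⟨e, U, hxU, he', -, -, -, hge⟩ := exists_fibreDimAt_data f x hf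
    by_cases hen : e ≤ n
    · exact ih f x hV hfV hf (by rw [he']; exact_mod_cast hen) hcl
    have hW : IsAffineOpen (⊤ : X.Opens) := isAffineOpen_top X
    obtain ⟨M, hM, hMp, hMc⟩ := exists_finite_maximal f hV hW (fun z _ => hfV z) (f x)
    let pr : X → Ideal Γ(X, ⊤) := fun z => (hW.primeIdealOf ⟨z, trivial⟩).asIdeal
    have hprg : ∀ z (g : Γ(X, ⊤)), g ∈ pr z ↔ z ∈ X.zeroLocus ({g} : Set Γ(X, ⊤)) := fun z g => by
      rw [Scheme.zeroLocus_singleton, Set.mem_compl_iff, SetLike.mem_coe]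
      have h1 : hW.fromSpec (hW.primeIdealOf ⟨z, trivial⟩) = z := hW.fromSpec_primeIdealOf ⟨z, trivial⟩
      have h2 := hW.fromSpec_preimage_basicOpen g
      constructor
      · intro hg hz
        have : hW.primeIdealOf ⟨z, trivial⟩ ∈ hW.fromSpec ⁻¹ᵁ X.basicOpen g := by
          show hW.fromSpec _ ∈ X.basicOpen g
          rw [h1]; exact hz
        rw [h2] at this
        exact this hg
      · intro hz
        by_contra hg
        refine hz ?_
        have : hW.primeIdealOf ⟨z, trivial⟩ ∈ hW.fromSpec ⁻¹ᵁ X.basicOpen g := by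
          rw [h2]; exact hg
        rw [← h1]; exact this
    obtain ⟨g, hgx, hgM⟩ : ∃ g, g ∈ pr x ∧ ∀ m ∈ M, g ∉ pr m := by
      by_contra! hcon
      have hsub : (pr x : Set Γ(X, ⊤)) ⊆ ⋃ m ∈ (hM.toFinset : Set X), (pr m : Set Γ(X, ⊤)) := fun g hg => by
        obtain ⟨m, hm, hgm⟩ := hcon g hg
        exact Set.mem_biUnion (by simpa using hm) hgm
      obtain ⟨m, hm, hle⟩ := (Ideal.subset_union_prime x x fun m _ _ _ =>
        (hW.primeIdealOf ⟨m, trivial⟩).2).mp hsub
      have hm' := hM.mem_toFinset.mp hm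
      obtain ⟨-, hfm, hmm⟩ := hMp m hm'
      have hxm : x ⤳ m := (primeIdealOf_le_iff hW trivial trivial).mp hle
      obtain rfl := hcl m hxm hfm
      -- a maximal point which is closed in its fibre forces dimension zero
      obtain ⟨c, hc, hc'⟩ := hge _ hxU fun z hz hzm => hmm z (hz.trans hfm) hzm
      have hall : ∀ i, c i = m := fun i =>
        hcl _ (specializes_iff_mem_closure.mpr (hc i).1.2) (hc i).2
      exact (hc' ⟨0, by omega⟩).2 ((hall _).trans (hall _).symm)
    have hgx' := (hprg x g).mp hgx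
    have hmax : ∀ z : X, f.base z = f.base x →
        (∀ z' : X, f.base z' = f.base x → z ∈ closure ({z'} : Set X) → z' = z) →
        z ∉ X.zeroLocus ({g} : Set Γ(X, ⊤)) := fun z hz hzmax => by
      obtain ⟨m, hm, hmz⟩ := hMc z trivial hz
      obtain rfl := hzmax m (hMp m hm).2.1 hmz.mem_closure
      exact fun h => hgM _ hm ((hprg _ g).mpr h)
    obtain ⟨heq, hdim, -⟩ := Groth.Agent.S5925.result f x hf g hgx' hmax
    let T : Closeds X := ⟨X.zeroLocus ({g} : Set Γ(X, ⊤)), X.zeroLocus_isClosed _⟩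
    let I := Scheme.IdealSheafData.vanishingIdeal T
    have hr : Set.range I.subschemeι = (T : Set X) := by
      rw [Scheme.IdealSheafData.range_subschemeι, Scheme.IdealSheafData.coe_support_vanishingIdeal]
    obtain ⟨w, hw⟩ : x ∈ Set.range I.subschemeι := hr.ge hgx'
    haveI : IsAffine I.subscheme := isAffine_of_isAffineHom I.subschemeι
    have hdim' : FlatMor.fibreDimAt (I.subschemeι ≫ f) w ≤ (n : WithBot ℕ∞) := by
      have h1 : FlatMor.localDim ↥(X.zeroLocus ({g} : Set Γ(X, ⊤)) ∩ f.base ⁻¹' {f.base x}) ⟨x, ⟨hgx', rfl⟩⟩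
          ≤ (n : WithBot ℕ∞) := by
        have h2 := hdim.le.trans he
        generalize FlatMor.localDim ↥(X.zeroLocus ({g} : Set Γ(X, ⊤)) ∩ f.base ⁻¹' {f.base x})
          ⟨x, ⟨hgx', rfl⟩⟩ = v at h2
        cases v with
        | bot => exact bot_le
        | coe v =>
          rw [Nat.cast_add, Nat.cast_one, ← WithBot.coe_one, ← WithBot.coe_add] at h2
          have h3 : v + 1 ≤ (n : ℕ∞) + 1 := by
            rw [← WithBot.coe_le_coe]
            simpa using h2
          exact WithBot.coe_le_coe.mpr ((ENat.add_le_add_iff_right ENat.one_ne_top).mp h3)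
      obtain ⟨O, hxO, hO⟩ := (localDim_inter_le_iff f T.isClosed.isLocallyClosed (y := f x)
        ⟨hgx', rfl⟩).mp h1
      refine (fibreDimAt_le_iff _ w).mpr ⟨I.subschemeι ⁻¹ᵁ O, show I.subschemeι w ∈ O by rw [hw]; exact hxO,
        fun k c hc hc' => hO k (fun i => I.subschemeι (c i)) (fun i => ⟨⟨(hc i).1, hr.le ⟨_, rfl⟩⟩, ?_⟩)
          fun i => ⟨(hc' i).1.map I.subschemeι.continuous,
            fun e => (hc' i).2 (I.subschemeι.isEmbedding.injective e)⟩⟩
      rw [← Scheme.Hom.comp_apply, (hc i).2, Scheme.Hom.comp_apply, hw]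
    obtain ⟨ξ, hξw, hξmax, O, hwO, hO⟩ := ih (I.subschemeι ≫ f) w hV
      (fun z => by rw [Scheme.Hom.comp_apply]; exact hfV _) (heq w hw) hdim'
      (fun z hz hfz => I.subschemeι.isEmbedding.injective (by
        rw [hw]
        refine hcl _ (hw ▸ hz.map I.subschemeι.continuous) ?_
        rw [← Scheme.Hom.comp_apply, hfz, Scheme.Hom.comp_apply, hw]))
    obtain ⟨O', hO', hOeq⟩ := I.subschemeι.isEmbedding.isInducing.isOpen_iff.mp O.2
    have hmem : ∀ z, z ∈ O ↔ I.subschemeι z ∈ O' := fun z => by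
      exact (Set.ext_iff.mp hOeq z).symm
    refine ⟨I.subschemeι ξ, hw ▸ hξw.map I.subschemeι.continuous, by rwa [← Scheme.Hom.comp_apply],
      ⟨O', hO'⟩, hw ▸ (hmem w).mp hwO, fun y k c hc hc' => ?_⟩
    choose d hd using fun i => (specializes_iff_mem_closure.mpr (hc i).1.2).mem_closed
      I.subschemeι.isClosedEmbedding.isClosed_range ⟨ξ, rfl⟩
    have hsp : ∀ a b, I.subschemeι a ⤳ I.subschemeι b ↔ a ⤳ b := fun a b =>
      I.subschemeι.isEmbedding.isInducing.specializes_iff
    refine hO y k d (fun i => ⟨⟨(hmem _).mpr (by rw [hd]; exact (hc i).1.1),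
      specializes_iff_mem_closure.mp ((hsp _ _).mp (by rw [hd]; exact specializes_iff_mem_closure.mpr (hc i).1.2))⟩,
      by rw [Scheme.Hom.comp_apply, hd]; exact (hc i).2⟩)
      fun i => ⟨(hsp _ _).mp (by rw [hd, hd]; exact (hc' i).1), fun e => (hc' i).2 (by rw [← hd, ← hd, e])⟩

end Groth.Agent.EquidimPt
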